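import Mathlib

/-!
Structure constants of finite étale algebras supported on the image of an idempotent matrix.
-/

set_option autoImplicit false
set_option linter.all false

universe u

namespace Groth.Agent.EtStrLib

open TensorProduct

variable {ι : Type} [Fintype ι] [DecidableEq ι]

/-- The variables: products, the unit, and the separability idempotent. -/
abbrev Var (ι : Type) := (ι × ι × ι) ⊕ ι ⊕ (ι × ι)

/-- The product constants. -/
def cc {C : Type*} (v : Var ι → C) (i j m : ι) : C := v (.inl (i, j, m))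
/-- The unit constants. -/
def uu {C : Type*} (v : Var ι → C) (i : ι) : C := v (.inr (.inl i))
/-- The idempotent constants. -/
def ss {C : Type*} (v : Var ι → C) (i j : ι) : C := v (.inr (.inr (i, j)))

/-- The equations. -/
inductive Eqn (ι : Type) : Type
  | left (i j m : ι)
  | supp (i j m : ι)
  | comm (i j m : ι)
  | assoc (i j k l : ι)
  | usupp (m : ι)
  | unit (j m : ι)
  | sepL (m j : ι)
  | sepR (m j : ι)
  | sep (k m j : ι)
  | sepMul (m : ι)

/-- `Eqn` as a sum type. -/
def Eqn.equiv (ι : Type) : Eqn ι ≃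
    (ι × ι × ι) ⊕ (ι × ι × ι) ⊕ (ι × ι × ι) ⊕ (ι × ι × ι × ι) ⊕ ι ⊕ (ι × ι) ⊕ (ι × ι) ⊕ (ι × ι) ⊕
      (ι × ι × ι) ⊕ ι where
  toFun
    | .left i j m => .inl (i, j, m)
    | .supp i j m => .inr (.inl (i, j, m))
    | .comm i j m => .inr (.inr (.inl (i, j, m)))
    | .assoc i j k l => .inr (.inr (.inr (.inl (i, j, k, l))))
    | .usupp m => .inr (.inr (.inr (.inr (.inl m))))
    | .unit j m => .inr (.inr (.inr (.inr (.inr (.inl (j, m))))))
    | .sepL m j => .inr (.inr (.inr (.inr (.inr (.inr (.inl (m, j)))))))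
    | .sepR m j => .inr (.inr (.inr (.inr (.inr (.inr (.inr (.inl (m, j))))))))
    | .sep k m j => .inr (.inr (.inr (.inr (.inr (.inr (.inr (.inr (.inl (k, m, j)))))))))
    | .sepMul m => .inr (.inr (.inr (.inr (.inr (.inr (.inr (.inr (.inr m))))))))
  invFun
    | .inl (i, j, m) => .left i j m
    | .inr (.inl (i, j, m)) => .supp i j m
    | .inr (.inr (.inl (i, j, m))) => .comm i j m
    | .inr (.inr (.inr (.inl (i, j, k, l)))) => .assoc i j k l
    | .inr (.inr (.inr (.inr (.inl m)))) => .usupp m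
    | .inr (.inr (.inr (.inr (.inr (.inl (j, m)))))) => .unit j m
    | .inr (.inr (.inr (.inr (.inr (.inr (.inl (m, j))))))) => .sepL m j
    | .inr (.inr (.inr (.inr (.inr (.inr (.inr (.inl (m, j)))))))) => .sepR m j
    | .inr (.inr (.inr (.inr (.inr (.inr (.inr (.inr (.inl (k, m, j))))))))) => .sep k m j
    | .inr (.inr (.inr (.inr (.inr (.inr (.inr (.inr (.inr m)))))))) => .sepMul m
  left_inv e := by cases e <;> rfl
  right_inv e := by rcases e with _ | _ | _ | _ | _ | _ | _ | _ | _ | _ <;> rfl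

instance : Fintype (Eqn ι) := Fintype.ofEquiv _ (Eqn.equiv ι).symm

/-- The value of an equation at given constants. -/
def eqs {C : Type*} [CommRing C] (P : Matrix ι ι C) (v : Var ι → C) : Eqn ι → C
  | .left i j m => ∑ i', P i' i * cc v i' j m - cc v i j m
  | .supp i j m => ∑ l, P m l * cc v i j l - cc v i j m
  | .comm i j m => cc v i j m - cc v j i m
  | .assoc i j k l => ∑ m, cc v i j m * cc v m k l - ∑ m, cc v j k m * cc v i m l
  | .usupp m => ∑ l, P m l * uu v l - uu v m
  | .unit j m => ∑ i, uu v i * cc v i j m - P m j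
  | .sepL m j => ∑ i, P m i * ss v i j - ss v m j
  | .sepR m j => ∑ i, P j i * ss v m i - ss v m j
  | .sep k m j => ∑ i, ss v i j * cc v k i m - ∑ i, ss v m i * cc v k i j
  | .sepMul m => ∑ i, ∑ j, ss v i j * cc v i j m - uu v m

/-- The constants define a finite étale algebra on the image of `P`. -/
def IsPt {C : Type*} [CommRing C] (P : Matrix ι ι C) (v : Var ι → C) : Prop := ∀ e, eqs P v e = 0

theorem eqs_map {C D F : Type*} [CommRing C] [CommRing D] [FunLike F C D] [RingHomClass F C D] (h : F)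
    (P : Matrix ι ι C) (v : Var ι → C) (e : Eqn ι) :
    h (eqs P v e) = eqs (P.map h) (fun x => h (v x)) e := by
  cases e <;> simp [eqs, cc, uu, ss, map_sum]

theorem IsPt.map {C D F : Type*} [CommRing C] [CommRing D] [FunLike F C D] [RingHomClass F C D] (h : F)
    {P : Matrix ι ι C} {v : Var ι → C} (hv : IsPt P v) : IsPt (P.map h) (fun x => h (v x)) := fun e => by
  rw [← eqs_map, hv e, map_zero]

/-- Coordinates on an algebra with respect to `P`. -/
structure Frame {C : Type*} [CommRing C] (P : Matrix ι ι C) (B : Type*) [CommRing B] [Algebra C B] where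
  /-- generators -/
  b : ι → B
  /-- coordinates -/
  φ : B →ₗ[C] (ι → C)
  sum : ∀ y, ∑ i, φ y i • b i = y
  coord : ∀ k i, φ (b k) i = P i k

namespace Frame

variable {C : Type*} [CommRing C] {P : Matrix ι ι C} {B : Type*} [CommRing B] [Algebra C B]
  (F : Frame P B)

/-- Coordinates of tensors. -/
noncomputable def φ₂ : B ⊗[C] B →ₗ[C] (ι → ι → C) :=
  TensorProduct.lift (LinearMap.mk₂ C (fun x y i j => F.φ x i * F.φ y j)
    (fun a a' y => by ext i j; simp [add_mul])
    (fun r a y => by ext i j; simp [mul_assoc])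
    (fun a y y' => by ext i j; simp [mul_add])
    (fun r a y => by ext i j; simp [mul_left_comm]))

@[simp]
theorem φ₂_tmul (x y : B) (i j : ι) : F.φ₂ (x ⊗ₜ y) i j = F.φ x i * F.φ y j := rfl

theorem φ_mul (x y : B) (m : ι) :
    F.φ (x * y) m = ∑ i, ∑ j, F.φ x i * F.φ y j * F.φ (F.b i * F.b j) m := by
  conv_lhs => rw [← F.sum x, ← F.sum y, Finset.sum_mul]
  simp only [Finset.mul_sum, smul_mul_assoc, mul_smul_comm, map_sum, map_smul, Finset.sum_apply,
    Pi.smul_apply, smul_eq_mul]
  refine Finset.sum_congr rfl fun i _ => Finset.sum_congr rfl fun j _ => by ring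

theorem φ_supp (y : B) (m : ι) : ∑ l, P m l * F.φ y l = F.φ y m := by
  conv_rhs => rw [← F.sum y]
  simp only [map_sum, map_smul, Finset.sum_apply, Pi.smul_apply, smul_eq_mul, F.coord]
  exact Finset.sum_congr rfl fun i _ => mul_comm _ _

theorem φ_injective : Function.Injective F.φ := fun x y h => by
  rw [← F.sum x, ← F.sum y, h]

/-- The constants of an algebra. -/
noncomputable def consts (ε : B ⊗[C] B) : Var ι → C
  | .inl (i, j, m) => F.φ (F.b i * F.b j) m
  | .inr (.inl i) => F.φ 1 i
  | .inr (.inr (i, j)) => F.φ₂ ε i j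

theorem sum_b (k : ι) : ∑ i, P i k • F.b i = F.b k := by
  conv_rhs => rw [← F.sum (F.b k)]
  simp only [F.coord]

theorem isPt (ε : B ⊗[C] B) (h1 : ∀ x : B, (1 ⊗ₜ x - x ⊗ₜ 1) * ε = 0)
    (h2 : Algebra.TensorProduct.lmul' C ε = 1) : IsPt P (F.consts ε) := by
  intro e
  cases e <;> simp only [eqs, cc, uu, ss, consts, sub_eq_zero]
  case left i j m =>
    conv_rhs => rw [← F.sum_b i, Finset.sum_mul]
    simp [smul_mul_assoc]
  case supp i j m => exact F.φ_supp _ m
  case comm i j m => rw [mul_comm]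
  case assoc i j k l =>
    have e1 : F.φ (F.b i * F.b j * F.b k) l = ∑ m, F.φ (F.b i * F.b j) m * F.φ (F.b m * F.b k) l := by
      conv_lhs => rw [← F.sum (F.b i * F.b j), Finset.sum_mul]
      simp [smul_mul_assoc]
    have e2 : F.φ (F.b i * (F.b j * F.b k)) l =
        ∑ m, F.φ (F.b j * F.b k) m * F.φ (F.b i * F.b m) l := by
      conv_lhs => rw [← F.sum (F.b j * F.b k), Finset.mul_sum]
      simp [mul_smul_comm]
    rw [← e1, ← e2, mul_assoc]
  case usupp m => exact F.φ_supp 1 m
  case unit j m =>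
    rw [← F.coord j m]
    conv_rhs => rw [← one_mul (F.b j), ← F.sum 1, Finset.sum_mul]
    simp [smul_mul_assoc]
  case sepL m j =>
    clear h1 h2
    induction ε using TensorProduct.induction_on with
    | zero => simp
    | tmul x y => simp only [φ₂_tmul, ← mul_assoc, ← Finset.sum_mul, F.φ_supp]
    | add a b ha hb => simp [mul_add, Finset.sum_add_distrib, ha, hb]
  case sepR m j =>
    clear h1 h2
    induction ε using TensorProduct.induction_on with
    | zero => simp
    | tmul x y => simp only [φ₂_tmul, mul_left_comm (P j _), ← Finset.mul_sum, F.φ_supp]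
    | add a b ha hb => simp [mul_add, Finset.sum_add_distrib, ha, hb]
  case sep k m j =>
    have h3 := congrArg (fun z => F.φ₂ z m j) (h1 (F.b k))
    simp only [sub_mul, map_sub, map_zero, Pi.sub_apply, Pi.zero_apply, sub_eq_zero] at h3
    have hr : ∀ z : B ⊗[C] B, F.φ₂ ((1 ⊗ₜ F.b k) * z) m j =
        ∑ i, F.φ₂ z m i * F.φ (F.b k * F.b i) j := fun z => by
      induction z using TensorProduct.induction_on with
      | zero => simp
      | tmul x y =>
        simp only [Algebra.TensorProduct.tmul_mul_tmul, one_mul, φ₂_tmul]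
        conv_lhs => rw [← F.sum y, Finset.mul_sum]
        simp [mul_smul_comm, Finset.mul_sum, mul_assoc]
      | add a b ha hb => simp [mul_add, add_mul, Finset.sum_add_distrib, ha, hb]
    have hl : ∀ z : B ⊗[C] B, F.φ₂ ((F.b k ⊗ₜ 1) * z) m j =
        ∑ i, F.φ₂ z i j * F.φ (F.b k * F.b i) m := fun z => by
      induction z using TensorProduct.induction_on with
      | zero => simp
      | tmul x y =>
        simp only [Algebra.TensorProduct.tmul_mul_tmul, one_mul, φ₂_tmul]
        conv_lhs => rw [← F.sum x, Finset.mul_sum]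
        simp only [Finset.sum_mul, smul_mul_assoc, map_sum, map_smul, Finset.sum_apply, Pi.smul_apply,
          smul_eq_mul, Finset.mul_sum, mul_smul_comm]
        exact Finset.sum_congr rfl fun i _ => by ring
      | add a b ha hb => simp [mul_add, add_mul, Finset.sum_add_distrib, ha, hb]
    rw [hr, hl] at h3
    exact h3.symm
  case sepMul m =>
    rw [← h2]
    clear h1 h2
    induction ε using TensorProduct.induction_on with
    | zero => simp
    | tmul x y => simp only [φ₂_tmul, Algebra.TensorProduct.lmul'_apply_tmul, F.φ_mul x y]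
    | add a b ha hb => simp [add_mul, Finset.sum_add_distrib, ha, hb]

end Frame

/-- The two properties determine the separability idempotent. -/
theorem elem_unique {C B : Type*} [CommRing C] [CommRing B] [Algebra C B] (ε ε' : B ⊗[C] B)
    (h1 : ∀ x : B, (1 ⊗ₜ x - x ⊗ₜ 1) * ε = 0) (h2 : Algebra.TensorProduct.lmul' C ε = 1)
    (h1' : ∀ x : B, (1 ⊗ₜ x - x ⊗ₜ 1) * ε' = 0) (h2' : Algebra.TensorProduct.lmul' C ε' = 1) :
    ε = ε' := by
  have key : ∀ w z : B ⊗[C] B, (∀ x : B, (1 ⊗ₜ x - x ⊗ₜ 1) * w = 0) →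
      z * w = (Algebra.TensorProduct.lmul' C z ⊗ₜ 1) * w := by
    intro w z hw
    induction z using TensorProduct.induction_on with
    | zero => simp
    | tmul x y =>
      have h := hw y
      rw [sub_mul, sub_eq_zero] at h
      rw [Algebra.TensorProduct.lmul'_apply_tmul, show x ⊗ₜ[C] y = (x ⊗ₜ 1) * (1 ⊗ₜ y) by simp,
        mul_assoc, h, ← mul_assoc, Algebra.TensorProduct.tmul_mul_tmul, mul_one]
    | add a b ha hb => rw [add_mul, ha, hb, map_add, TensorProduct.add_tmul, add_mul]
  have e1 := key ε' ε h1'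
  have e2 := key ε ε' h1
  rw [h2, ← Algebra.TensorProduct.one_def, one_mul] at e1
  rw [h2', ← Algebra.TensorProduct.one_def, one_mul] at e2
  rw [← e2, mul_comm, e1]

section algebra

variable {C : Type u} [CommRing C] {P : Matrix ι ι C} {v : Var ι → C}

/-- Constants give a finite étale algebra. -/
theorem exists_algebra (hP : P * P = P) (hv : IsPt P v) :
    ∃ (B : Type u) (_ : CommRing B) (_ : Algebra C B) (_ : Algebra.Etale C B) (_ : Module.Finite C B)
      (F : Frame P B) (ε : B ⊗[C] B),
      (∀ x : B, (1 ⊗ₜ x - x ⊗ₜ 1) * ε = 0) ∧ Algebra.TensorProduct.lmul' C ε = 1 ∧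
        F.consts ε = v := by
  classical
  have hl : ∀ i j m, ∑ i', P i' i * cc v i' j m = cc v i j m := fun i j m => sub_eq_zero.1 (hv (.left i j m))
  have hs : ∀ i j m, ∑ l, P m l * cc v i j l = cc v i j m := fun i j m => sub_eq_zero.1 (hv (.supp i j m))
  have hc : ∀ i j m, cc v i j m = cc v j i m := fun i j m => sub_eq_zero.1 (hv (.comm i j m))
  have ha : ∀ i j k l, ∑ m, cc v i j m * cc v m k l = ∑ m, cc v j k m * cc v i m l :=
    fun i j k l => sub_eq_zero.1 (hv (.assoc i j k l))
  have hu : ∀ m, ∑ l, P m l * uu v l = uu v m := fun m => sub_eq_zero.1 (hv (.usupp m))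
  have h1 : ∀ j m, ∑ i, uu v i * cc v i j m = P m j := fun j m => sub_eq_zero.1 (hv (.unit j m))
  have hsl : ∀ m j, ∑ i, P m i * ss v i j = ss v m j := fun m j => sub_eq_zero.1 (hv (.sepL m j))
  have hsr : ∀ m j, ∑ i, P j i * ss v m i = ss v m j := fun m j => sub_eq_zero.1 (hv (.sepR m j))
  have hsep : ∀ k m j, ∑ i, ss v i j * cc v k i m = ∑ i, ss v m i * cc v k i j :=
    fun k m j => sub_eq_zero.1 (hv (.sep k m j))
  have hsm : ∀ m, ∑ i, ∑ j, ss v i j * cc v i j m = uu v m := fun m => sub_eq_zero.1 (hv (.sepMul m))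
  let S : Submodule C (ι → C) := LinearMap.range P.mulVecLin
  have hS : ∀ z : ι → C, z ∈ S ↔ ∀ m, ∑ l, P m l * z l = z m := by
    intro z
    refine ⟨?_, fun h => ⟨z, funext h⟩⟩
    rintro ⟨w, rfl⟩ m
    show ∑ l, P m l * (P.mulVec w) l = (P.mulVec w) m
    have : P.mulVec (P.mulVec w) = P.mulVec w := by rw [Matrix.mulVec_mulVec, hP]
    exact congrFun this m
  let μ : (ι → C) → (ι → C) → (ι → C) := fun x y m => ∑ i, ∑ j, x i * y j * cc v i j m
  have hμS : ∀ x y, μ x y ∈ S := fun x y => (hS _).2 fun m => by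
    simp only [μ, Finset.mul_sum]
    rw [Finset.sum_comm]
    refine Finset.sum_congr rfl fun i _ => ?_
    rw [Finset.sum_comm]
    refine Finset.sum_congr rfl fun j _ => ?_
    simp only [← hs i j m, Finset.mul_sum]
    exact Finset.sum_congr rfl fun l _ => by ring
  have huS : uu v ∈ S := (hS _).2 hu
  have hμc : ∀ x y, μ x y = μ y x := fun x y => funext fun m => by
    show ∑ i, ∑ j, x i * y j * cc v i j m = ∑ i, ∑ j, y i * x j * cc v i j m
    rw [Finset.sum_comm]
    exact Finset.sum_congr rfl fun i _ => Finset.sum_congr rfl fun j _ => by rw [hc]; ring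
  let instMul : Mul S := ⟨fun x y => ⟨μ x.1 y.1, hμS _ _⟩⟩
  let instOne : One S := ⟨⟨uu v, huS⟩⟩
  have mul_comm' : ∀ x y : S, x * y = y * x := fun x y => Subtype.ext (hμc _ _)
  have one_mul' : ∀ x : S, 1 * x = x := fun x => Subtype.ext <| funext fun m => by
    show ∑ i, ∑ j, uu v i * x.1 j * cc v i j m = x.1 m
    rw [Finset.sum_comm, ← (hS x.1).1 x.2 m]
    refine Finset.sum_congr rfl fun j _ => ?_
    rw [← h1, Finset.sum_mul]
    exact Finset.sum_congr rfl fun i _ => by ring
  have add_mul' : ∀ x y z : S, (x + y) * z = x * z + y * z := fun x y z => Subtype.ext <| funext fun m => by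
    show ∑ i, ∑ j, (x.1 i + y.1 i) * z.1 j * cc v i j m =
      ∑ i, ∑ j, x.1 i * z.1 j * cc v i j m + ∑ i, ∑ j, y.1 i * z.1 j * cc v i j m
    simp only [add_mul, Finset.sum_add_distrib]
  have smul_mul' : ∀ (r : C) (x y : S), r • x * y = r • (x * y) := fun r x y => Subtype.ext <| funext fun m => by
    show ∑ i, ∑ j, (r * x.1 i) * y.1 j * cc v i j m = r * ∑ i, ∑ j, x.1 i * y.1 j * cc v i j m
    simp only [Finset.mul_sum]
    exact Finset.sum_congr rfl fun i _ => Finset.sum_congr rfl fun j _ => by ring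
  have zero_mul' : ∀ x : S, 0 * x = 0 := fun x => Subtype.ext <| funext fun m => by
    show ∑ i, ∑ j, (0 : C) * x.1 j * cc v i j m = 0
    simp
  have mul_assoc' : ∀ x y z : S, x * y * z = x * (y * z) := fun x y z => Subtype.ext <| funext fun l => by
    show ∑ m, ∑ k, (∑ i, ∑ j, x.1 i * y.1 j * cc v i j m) * z.1 k * cc v m k l =
      ∑ i, ∑ m, x.1 i * (∑ j, ∑ k, y.1 j * z.1 k * cc v j k m) * cc v i m l
    have e1 : ∀ m k, (∑ i, ∑ j, x.1 i * y.1 j * cc v i j m) * z.1 k * cc v m k l =
        ∑ i, ∑ j, x.1 i * y.1 j * z.1 k * (cc v i j m * cc v m k l) := fun m k => by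
      simp only [Finset.sum_mul]
      exact Finset.sum_congr rfl fun i _ => Finset.sum_congr rfl fun j _ => by ring
    have e2 : ∀ i m, x.1 i * (∑ j, ∑ k, y.1 j * z.1 k * cc v j k m) * cc v i m l =
        ∑ j, ∑ k, x.1 i * y.1 j * z.1 k * (cc v j k m * cc v i m l) := fun i m => by
      simp only [Finset.mul_sum, Finset.sum_mul]
      exact Finset.sum_congr rfl fun j _ => Finset.sum_congr rfl fun k _ => by ring
    simp only [e1, e2]
    -- left order `m k i j`, right order `i m j k`
    calc ∑ m, ∑ k, ∑ i, ∑ j, x.1 i * y.1 j * z.1 k * (cc v i j m * cc v m k l)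
        = ∑ i, ∑ j, ∑ k, ∑ m, x.1 i * y.1 j * z.1 k * (cc v i j m * cc v m k l) := by
          rw [Finset.sum_comm]
          conv_lhs => enter [2, k]; rw [Finset.sum_comm]
          rw [Finset.sum_comm]
          refine Finset.sum_congr rfl fun i _ => ?_
          conv_lhs => enter [2, k]; rw [Finset.sum_comm]
          rw [Finset.sum_comm]
      _ = ∑ i, ∑ j, ∑ k, ∑ m, x.1 i * y.1 j * z.1 k * (cc v j k m * cc v i m l) := by
          refine Finset.sum_congr rfl fun i _ => Finset.sum_congr rfl fun j _ =>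
            Finset.sum_congr rfl fun k _ => ?_
          rw [← Finset.mul_sum, ← Finset.mul_sum, ha]
      _ = ∑ i, ∑ m, ∑ j, ∑ k, x.1 i * y.1 j * z.1 k * (cc v j k m * cc v i m l) := by
          refine Finset.sum_congr rfl fun i _ => ?_
          conv_lhs => enter [2, j]; rw [Finset.sum_comm]
          rw [Finset.sum_comm]
  letI instCR : CommRing S :=
    { (inferInstance : AddCommGroup S) with
      mul := (· * ·)
      one := 1
      mul_assoc := mul_assoc'
      one_mul := one_mul'
      mul_one := fun x => (mul_comm' _ _).trans (one_mul' x)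
      mul_comm := mul_comm'
      left_distrib := fun x y z => by rw [mul_comm', add_mul', mul_comm' y, mul_comm' z]
      right_distrib := add_mul'
      zero_mul := zero_mul'
      mul_zero := fun x => (mul_comm' _ _).trans (zero_mul' x) }
  letI : Algebra C S := Algebra.ofModule smul_mul' (fun r x y => by
    rw [mul_comm', smul_mul', mul_comm' y])
  have hmulS : ∀ (x y : S) (m : ι), (x * y).1 m = ∑ i, ∑ j, x.1 i * y.1 j * cc v i j m :=
    fun _ _ _ => rfl
  let b : ι → S := fun k => ⟨fun i => P i k, (hS _).2 fun m => congrFun (congrFun hP m) k⟩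
  have hbb : ∀ i j m, (b i * b j).1 m = cc v i j m := by
    intro i j m
    rw [hmulS]
    show ∑ i', ∑ j', P i' i * P j' j * cc v i' j' m = _
    rw [← hl i j m]
    refine Finset.sum_congr rfl fun i' _ => ?_
    rw [hc i' j m, ← hl j i' m, Finset.mul_sum]
    exact Finset.sum_congr rfl fun j' _ => by rw [hc j' i' m]; ring
  let F : Frame P S :=
    { b := b
      φ := S.subtype
      sum := fun y => Subtype.ext <| funext fun m => by
        simp only [Submodule.coe_sum, Submodule.coe_smul, Finset.sum_apply, Pi.smul_apply, smul_eq_mul,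
          Submodule.coe_subtype]
        rw [← (hS y.1).1 y.2 m]
        exact Finset.sum_congr rfl fun i _ => mul_comm _ _
      coord := fun _ _ => rfl }
  have hbsum : ∀ k i, b k * b i = ∑ m, cc v k i m • b m := fun k i => by
    conv_lhs => rw [← F.sum (b k * b i)]
    exact Finset.sum_congr rfl fun m _ => by rw [← hbb k i m]; rfl
  let ε : S ⊗[C] S := ∑ i, ∑ j, ss v i j • (b i ⊗ₜ[C] b j)
  have hεb : ∀ k, (1 ⊗ₜ b k - b k ⊗ₜ 1) * ε = 0 := fun k => by
    rw [sub_mul, sub_eq_zero]
    have eR : (1 ⊗ₜ b k) * ε = ∑ m, ∑ j, (∑ i, ss v m i * cc v k i j) • (b m ⊗ₜ[C] b j) := by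
      simp only [ε, Finset.mul_sum, mul_smul_comm, Algebra.TensorProduct.tmul_mul_tmul, one_mul,
        hbsum, TensorProduct.tmul_sum, TensorProduct.tmul_smul, Finset.smul_sum, smul_smul,
        Finset.sum_smul]
      refine Finset.sum_congr rfl fun m _ => ?_
      rw [Finset.sum_comm]
    have eL : (b k ⊗ₜ 1) * ε = ∑ m, ∑ j, (∑ i, ss v i j * cc v k i m) • (b m ⊗ₜ[C] b j) := by
      simp only [ε, Finset.mul_sum, mul_smul_comm, Algebra.TensorProduct.tmul_mul_tmul, one_mul,
        hbsum, TensorProduct.sum_tmul, ← TensorProduct.smul_tmul', Finset.smul_sum, smul_smul,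
        Finset.sum_smul]
      rw [Finset.sum_comm]
      conv_lhs => enter [2, j]; rw [Finset.sum_comm]
      rw [Finset.sum_comm]
    rw [eR, eL]
    simp only [hsep]
  have hε1 : ∀ x : S, (1 ⊗ₜ x - x ⊗ₜ 1) * ε = 0 := fun x => by
    rw [← F.sum x]
    simp only [TensorProduct.tmul_sum, TensorProduct.sum_tmul, TensorProduct.tmul_smul,
      ← TensorProduct.smul_tmul', ← Finset.sum_sub_distrib, ← smul_sub, Finset.sum_mul, smul_mul_assoc]
    refine Finset.sum_eq_zero fun i _ => ?_
    rw [show F.b i = b i from rfl, sub_mul, sub_eq_zero]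
    have h := hεb i
    rw [sub_mul, sub_eq_zero] at h
    simp only [smul_mul_assoc]
    rw [h]
  have hε2 : Algebra.TensorProduct.lmul' C ε = 1 := Subtype.ext <| funext fun m => by
    simp only [ε, map_sum, map_smul, Algebra.TensorProduct.lmul'_apply_tmul, Submodule.coe_sum,
      Submodule.coe_smul, Finset.sum_apply, Pi.smul_apply, smul_eq_mul, hbb]
    exact hsm m
  haveI : Module.Finite C S := Module.Finite.range P.mulVecLin
  haveI : Module.Projective C S := Module.Projective.of_split S.subtype P.mulVecLin.rangeRestrict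
    (LinearMap.ext fun x => Subtype.ext <| funext ((hS x.1).1 x.2))
  haveI : Module.FinitePresentation C S := Module.finitePresentation_of_projective C S
  haveI : Algebra.FinitePresentation C S :=
    Algebra.FinitePresentation.of_finitePresentation C S
  haveI : Algebra.FormallyUnramified C S :=
    Algebra.FormallyUnramified.iff_exists_tensorProduct.2 ⟨ε, hε1, hε2⟩
  haveI : Algebra.Etale C S := Algebra.Etale.of_formallyUnramified_of_flat
  refine ⟨S, instCR, inferInstance, inferInstance, inferInstance, F, ε, hε1, hε2, ?_⟩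
  funext z
  rcases z with ⟨i, j, m⟩ | i | ⟨i, j⟩
  · exact hbb i j m
  · rfl
  · have hbP : ∀ k i, F.φ (b k) i = P i k := fun k i => F.coord k i
    rw [show F.consts ε (Sum.inr (Sum.inr (i, j))) = F.φ₂ ε i j from rfl,
      show v (Sum.inr (Sum.inr (i, j))) = ss v i j from rfl]
    simp only [ε, map_sum, map_smul, Finset.sum_apply, Pi.smul_apply, Frame.φ₂_tmul, smul_eq_mul, hbP]
    rw [← hsl i j]
    refine Finset.sum_congr rfl fun k _ => ?_
    rw [← hsr k j, Finset.mul_sum]
    exact Finset.sum_congr rfl fun l _ => (mul_comm _ _).trans (mul_assoc _ _ _)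

end algebra

end Groth.Agent.EtStrLib
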