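import Mathlib
import Groth.Agent.EtStrLib.Basic
import Groth.Agent.Hensel.Idempotent
import Groth.Agent.HenselNewton.Basic

/-!
Finite étale algebras over `A'[1/τ]` with close structure constants are isomorphic, `(A', τ)` Henselian.
-/

set_option autoImplicit false
set_option linter.all false
set_option backward.isDefEq.respectTransparency.types false

universe u

namespace Groth.Agent.EtStrLib

open TensorProduct Pointwise

variable {ι : Type} [Fintype ι] [DecidableEq ι] {A : Type u} [CommRing A] {L : Type u} [CommRing L] [Algebra A L]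

/-- `x` is integral with respect to `A → L`. -/
def IsInt (A : Type u) [CommRing A] {L : Type u} [CommRing L] [Algebra A L] (x : L) : Prop :=
  ∃ a : A, algebraMap A L a = x

section lattice

variable (τ : A) {B : Type u} [CommRing B] [Algebra L B] [Algebra A B] [IsScalarTower A L B]
  {P : Matrix ι ι L} (F : Frame P B) (N : ℕ)

/-- Scaled generators together with `1`. -/
noncomputable def gen (o : Option ι) : B := o.elim 1 (fun i => algebraMap A L (τ ^ N) • F.b i)

/-- The lattice. -/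
noncomputable def lat : Submodule A B := Submodule.span A (Set.range (gen τ F N))

theorem one_mem_lat : (1 : B) ∈ lat τ F N := Submodule.subset_span ⟨none, rfl⟩

theorem mem_lat_smul {x : L} (hx : IsInt A x) {y : B} (hy : y ∈ lat τ F N) : x • y ∈ lat τ F N := by
  obtain ⟨a, rfl⟩ := hx
  rw [algebraMap_smul]
  exact Submodule.smul_mem _ a hy

theorem smul_b_mem_lat (i : ι) : algebraMap A L (τ ^ N) • F.b i ∈ lat τ F N :=
  Submodule.subset_span ⟨some i, rfl⟩

theorem mul_mem_lat (hN : ∀ i j m, IsInt A (algebraMap A L (τ ^ N) * F.φ (F.b i * F.b j) m))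
    {x y : B} (hx : x ∈ lat τ F N) (hy : y ∈ lat τ F N) : x * y ∈ lat τ F N := by
  have h : lat τ F N * lat τ F N ≤ lat τ F N := by
    rw [lat, Submodule.span_mul_span, Submodule.span_le]
    rintro _ ⟨_, ⟨o, rfl⟩, _, ⟨o', rfl⟩, rfl⟩
    show gen τ F N o * gen τ F N o' ∈ lat τ F N
    rcases o with _ | i
    · rw [show gen τ F N none = 1 from rfl, one_mul]; exact Submodule.subset_span ⟨o', rfl⟩
    rcases o' with _ | j
    · rw [show gen τ F N none = 1 from rfl, mul_one]; exact Submodule.subset_span ⟨_, rfl⟩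
    show (algebraMap A L (τ ^ N) • F.b i) * (algebraMap A L (τ ^ N) • F.b j) ∈ _
    rw [smul_mul_smul_comm, ← F.sum (F.b i * F.b j), Finset.smul_sum]
    refine Submodule.sum_mem _ fun m _ => ?_
    rw [smul_smul, show algebraMap A L (τ ^ N) * algebraMap A L (τ ^ N) * F.φ (F.b i * F.b j) m =
      (algebraMap A L (τ ^ N) * F.φ (F.b i * F.b j) m) * algebraMap A L (τ ^ N) by ring, mul_smul]
    exact mem_lat_smul τ F N (hN i j m) (smul_b_mem_lat τ F N m)
  exact h (Submodule.mul_mem_mul hx hy)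

/-- Every element is in the lattice up to a power of `τ`. -/
theorem exists_pow_smul_mem (hsurj : ∀ x : L, ∃ k : ℕ, IsInt A (algebraMap A L (τ ^ k) * x)) (y : B) :
    ∃ k : ℕ, algebraMap A L (τ ^ k) • y ∈ lat τ F N := by
  choose k hk using fun i => hsurj (F.φ y i)
  refine ⟨(∑ i, k i) + N, ?_⟩
  conv => enter [2, 2]; rw [← F.sum y]
  rw [Finset.smul_sum]
  refine Submodule.sum_mem _ fun i _ => ?_
  have hle : k i ≤ ∑ i, k i := Finset.single_le_sum (fun i _ => Nat.zero_le _) (Finset.mem_univ i)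
  rw [smul_smul, pow_add, ← Nat.sub_add_cancel hle, pow_add, map_mul, map_mul,
    show algebraMap A L (τ ^ ((∑ i, k i) - k i)) * algebraMap A L (τ ^ k i) * algebraMap A L (τ ^ N) *
      F.φ y i = algebraMap A L (τ ^ ((∑ i, k i) - k i)) * (algebraMap A L (τ ^ k i) * F.φ y i) *
      algebraMap A L (τ ^ N) by ring, mul_smul, mul_smul]
  exact mem_lat_smul τ F N ⟨_, rfl⟩ (mem_lat_smul τ F N (hk i) (smul_b_mem_lat τ F N i))

theorem fg_lat : (lat τ F N).FG := Submodule.fg_span (Set.finite_range _)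

end lattice

variable (τ : A) [HenselianRing A (Ideal.span {τ})]

/-- An almost idempotent element in a finite algebra over a Henselian pair gives an idempotent. -/
theorem exists_idempotent_near {E : Type u} [CommRing E] [Algebra A E] (hτ : IsUnit (algebraMap A E τ))
    (Λ : Subalgebra A E) [Module.Finite A Λ] (e₀ : E) (a : ℕ)
    (ha : algebraMap A E (τ ^ a) * e₀ ∈ Λ)
    (r : ℕ) (hr : 2 * a + 2 ≤ r) (d' : E) (hd' : d' ∈ Λ)
    (hd : e₀ * e₀ - e₀ = algebraMap A E (τ ^ r) * d') :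
    ∃ e w : E, IsIdempotentElem e ∧ w ∈ Λ ∧ e = e₀ + algebraMap A E (τ ^ (a + 1)) * w := by
  haveI : Algebra.IsIntegral A Λ := Algebra.IsIntegral.of_finite A Λ
  haveI := Hensel.of_isIntegral (I := Ideal.span {τ}) Λ
  let I := (Ideal.span {τ}).map (algebraMap A Λ)
  have hI : algebraMap A Λ τ ∈ I := Ideal.mem_map_of_mem _ (Ideal.mem_span_singleton_self τ)
  let u' : Λ := ⟨algebraMap A E (τ ^ a) * (2 * e₀ - 1), by
    rw [mul_sub, mul_one, mul_left_comm]
    exact sub_mem (mul_mem (by simpa using Λ.natCast_mem 2) ha) (Λ.algebraMap_mem _)⟩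
  let d : Λ := algebraMap A Λ (τ ^ r) * ⟨d', hd'⟩
  have hunit : IsUnit (1 + 4 * d) := by
    have h1 : algebraMap A Λ τ ∈ (⊥ : Ideal Λ).jacobson := HenselianRing.jac hI
    have h2 : (4 * d : Λ) ∈ (⊥ : Ideal Λ).jacobson := by
      have : (4 * d : Λ) = algebraMap A Λ τ * (algebraMap A Λ (τ ^ (r - 1)) * 4 * ⟨d', hd'⟩) := by
        show (4 : Λ) * (algebraMap A Λ (τ ^ r) * ⟨d', hd'⟩) = _
        conv_lhs => rw [show r = (r - 1) + 1 by omega, pow_succ, map_mul]
        ring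
      rw [this]
      exact Ideal.mul_mem_right _ _ h1
    rw [Ideal.mem_jacobson_bot] at h2
    have h3 := h2 1
    rwa [mul_one, add_comm] at h3
  obtain ⟨U, hU⟩ := hunit
  let v' : Λ := u' * (↑U⁻¹ : Λ)
  let s : Λ := v' * ⟨d', hd'⟩ * algebraMap A Λ (τ ^ (r - (2 * a + 1)))
  have hs : s ∈ I := by
    refine Ideal.mul_mem_left _ _ ?_
    rw [show r - (2 * a + 1) = (r - (2 * a + 2)) + 1 by omega, pow_succ, map_mul]
    exact Ideal.mul_mem_left _ _ hI
  obtain ⟨y, -, hy⟩ := HenselNewton.exists_root_quadratic_tail I (Polynomial.C (v' * algebraMap A Λ τ)) hs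
  rw [Polynomial.eval_C] at hy
  refine ⟨_, (y : E), ?_, y.2, rfl⟩
  have hy' : (s : E) + y + (y : E) ^ 2 * ((v' : E) * algebraMap A E τ) = 0 := congrArg Subtype.val hy
  set W := algebraMap A E (τ ^ (a + 1)) * (y : E) with hW
  have hU' : (1 + 4 * (e₀ * e₀ - e₀)) * ((↑U⁻¹ : Λ) : E) = 1 := by
    have h4 : ((U : Λ) * (↑U⁻¹ : Λ) : Λ) = 1 := Units.mul_inv U
    have h5 := congrArg Λ.val h4
    rw [hU] at h5
    rw [hd]
    simp [d] at h5
    rw [show ((4 : Λ) : E) = 4 from map_ofNat Λ.val 4] at h5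
    simpa using h5
  have hv : (v' : E) = algebraMap A E (τ ^ a) * (2 * e₀ - 1) * ((↑U⁻¹ : Λ) : E) := rfl
  have hsE : (s : E) = (v' : E) * d' * algebraMap A E (τ ^ (r - (2 * a + 1))) := rfl
  -- `W + v W² + v d = 0` with `v = (2e₀ - 1) (1 + 4d)⁻¹`
  have h6 : W + (2 * e₀ - 1) * ((↑U⁻¹ : Λ) : E) * W ^ 2 +
      (2 * e₀ - 1) * ((↑U⁻¹ : Λ) : E) * (e₀ * e₀ - e₀) = 0 := by
    obtain ⟨q, hq⟩ : ∃ q, r = q + (2 * a + 1) := ⟨r - (2 * a + 1), by omega⟩
    have h7 := congrArg (fun z => algebraMap A E (τ ^ (a + 1)) * z) hy'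
    simp only [mul_zero, hsE, hv] at h7
    rw [← h7, hd, hW]
    subst hq
    simp only [Nat.add_sub_cancel, map_pow, map_mul, pow_add, pow_one, show 2 * a = a + a by omega]
    ring
  have h8 := congrArg (fun z => (2 * e₀ - 1) * z) h6
  show (e₀ + W) * (e₀ + W) = e₀ + W
  have h9 : (2 * e₀ - 1) * W + W ^ 2 + (e₀ * e₀ - e₀) = 0 := by
    simp only [mul_zero] at h8
    linear_combination h8 - (W ^ 2 + (e₀ * e₀ - e₀)) * hU'
  linear_combination h9

omit [Fintype ι] [DecidableEq ι] in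
private theorem sum_smul_tmul {R X Y : Type*} [CommRing R] [AddCommGroup X] [Module R X] [AddCommGroup Y]
    [Module R Y] {κ : Type*} (S : Finset κ) (w : κ → R) (x : κ → X) (y : Y) :
    (∑ i ∈ S, w i • x i) ⊗ₜ[R] y = ∑ i ∈ S, w i • (x i ⊗ₜ[R] y) := by
  rw [TensorProduct.sum_tmul]; simp only [TensorProduct.smul_tmul']

/-- Algebras with close structure constants are isomorphic. -/
theorem exists_algEquiv_of_close {B D : Type u} [CommRing B] [Algebra L B] [CommRing D] [Algebra L D]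
    (hu : IsUnit (algebraMap A L τ)) (hsurj : ∀ x : L, ∃ k : ℕ, IsInt A (algebraMap A L (τ ^ k) * x))
    {P : Matrix ι ι L} (F : Frame P B) (G : Frame P D) (ε : B ⊗[L] B)
    (hε1 : ∀ x : B, (1 ⊗ₜ x - x ⊗ₜ 1) * ε = 0) (hε2 : Algebra.TensorProduct.lmul' L ε = 1) (ε' : D ⊗[L] D)
    (N n : ℕ) (hn : 30 * N + 30 ≤ n)
    (hint : ∀ x, IsInt A (algebraMap A L (τ ^ N) * F.consts ε x))
    (hclose : ∀ x, ∃ a : A, G.consts ε' x - F.consts ε x = algebraMap A L (τ ^ n * a)) :
    Nonempty (D ≃ₐ[L] B) := by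
  classical
  letI : Algebra A B := ((algebraMap L B).comp (algebraMap A L)).toAlgebra
  haveI : IsScalarTower A L B := IsScalarTower.of_algebraMap_eq fun _ => rfl
  letI : Algebra A D := ((algebraMap L D).comp (algebraMap A L)).toAlgebra
  haveI : IsScalarTower A L D := IsScalarTower.of_algebraMap_eq fun _ => rfl
  let T : ℕ → L := fun k => algebraMap A L (τ ^ k)
  have hT : ∀ k l, T (k + l) = T k * T l := fun k l => by simp only [T, pow_add, map_mul]
  have hTu : ∀ k, IsUnit (T k) := fun k => by simp only [T, map_pow]; exact hu.pow k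
  have hcB : ∀ i j m, IsInt A (T N * F.φ (F.b i * F.b j) m) := fun i j m => hint (.inl (i, j, m))
  have hcD : ∀ i j m, IsInt A (T N * G.φ (G.b i * G.b j) m) := fun i j m => by
    obtain ⟨a, ha⟩ := hclose (.inl (i, j, m))
    obtain ⟨b, hb⟩ := hcB i j m
    refine ⟨b + τ ^ N * (τ ^ n * a), ?_⟩
    rw [map_add, hb, map_mul _ (τ ^ N), ← ha]
    show _ + T N * (G.φ (G.b i * G.b j) m - F.φ (F.b i * F.b j) m) = _
    ring
  let s : ι → ι → L := fun i j => F.φ₂ ε i j
  have hs : ∀ i j, IsInt A (T N * s i j) := fun i j => hint (.inr (.inr (i, j)))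
  have hsq : ∀ k m j, ∑ i, s i j * F.φ (F.b k * F.b i) m = ∑ i, s m i * F.φ (F.b k * F.b i) j :=
    fun k m j => sub_eq_zero.1 (F.isPt ε hε1 hε2 (.sep k m j))
  have hsum1 : ∑ i, ∑ j, s i j • (F.b i * F.b j) = 1 := F.φ_injective (funext fun m => by
    simp only [map_sum, map_smul, Finset.sum_apply, Pi.smul_apply, smul_eq_mul]
    exact sub_eq_zero.1 (F.isPt ε hε1 hε2 (.sepMul m)))
  -- the lattice in `(D ⊗[L] B)`
  let MB : Submodule A B := lat τ F N
  let MD : Submodule A D := lat τ G N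
  let M : Submodule A (D ⊗[L] B) := Submodule.span A
    (Set.range fun o : Option ι × Option ι => gen τ G N o.1 ⊗ₜ[L] gen τ F N o.2)
  have hsmT : ∀ (a : A) (x : D) (y : B), (a • x) ⊗ₜ[L] y = a • (x ⊗ₜ[L] y) := fun a x y => rfl
  have hsmT' : ∀ (a : A) (x : D) (y : B), x ⊗ₜ[L] (a • y) = a • (x ⊗ₜ[L] y) := fun a x y => by
    rw [← algebraMap_smul L a y, TensorProduct.tmul_smul, algebraMap_smul]
  have hM : ∀ x ∈ MD, ∀ y ∈ MB, x ⊗ₜ[L] y ∈ M := by
    intro x hx y hy
    induction hx using Submodule.span_induction with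
    | mem x hx =>
      obtain ⟨o, rfl⟩ := hx
      induction hy using Submodule.span_induction with
      | mem y hy => obtain ⟨o', rfl⟩ := hy; exact Submodule.subset_span ⟨(o, o'), rfl⟩
      | zero => rw [TensorProduct.tmul_zero]; exact zero_mem _
      | add a b _ _ ha hb => rw [TensorProduct.tmul_add]; exact add_mem ha hb
      | smul a b _ hb => rw [hsmT']; exact Submodule.smul_mem _ a hb
    | zero => rw [TensorProduct.zero_tmul]; exact zero_mem _
    | add a b _ _ ha hb => rw [TensorProduct.add_tmul]; exact add_mem ha hb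
    | smul a b _ hb => rw [hsmT]; exact Submodule.smul_mem _ a hb
  have hMmul : ∀ z w, z ∈ M → w ∈ M → z * w ∈ M := by
    intro z w hz hw
    have h : M * M ≤ M := by
      rw [Submodule.span_mul_span, Submodule.span_le]
      rintro _ ⟨_, ⟨o, rfl⟩, _, ⟨o', rfl⟩, rfl⟩
      show (gen τ G N o.1 ⊗ₜ[L] gen τ F N o.2) * (gen τ G N o'.1 ⊗ₜ[L] gen τ F N o'.2) ∈ M
      rw [Algebra.TensorProduct.tmul_mul_tmul]
      exact hM _ (mul_mem_lat τ G N hcD (Submodule.subset_span ⟨_, rfl⟩) (Submodule.subset_span ⟨_, rfl⟩))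
        _ (mul_mem_lat τ F N hcB (Submodule.subset_span ⟨_, rfl⟩) (Submodule.subset_span ⟨_, rfl⟩))
    exact h (Submodule.mul_mem_mul hz hw)
  have h1M : (1 : (D ⊗[L] B)) ∈ M := hM 1 (one_mem_lat τ G N) 1 (one_mem_lat τ F N)
  let Λ : Subalgebra A (D ⊗[L] B) := Submodule.toSubalgebra M h1M hMmul
  haveI : Module.Finite A Λ := Module.Finite.iff_fg.2 (Submodule.fg_span (Set.finite_range _))
  have hMs : ∀ {x : L}, IsInt A x → ∀ {z : (D ⊗[L] B)}, z ∈ M → x • z ∈ M := fun {x} hx {z} hz => by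
    obtain ⟨a, rfl⟩ := hx
    rw [algebraMap_smul]; exact M.smul_mem a hz
  have hMT : ∀ {k l : ℕ}, k ≤ l → ∀ {z : (D ⊗[L] B)}, T k • z ∈ M → T l • z ∈ M := fun {k l} h {z} hz => by
    rw [show l = (l - k) + k by omega, hT, mul_smul]; exact hMs ⟨_, rfl⟩ hz
  have hbM : ∀ i j, T (N + N) • (G.b i ⊗ₜ[L] F.b j) ∈ M := fun i j => by
    rw [hT, ← smul_tmul_smul]
    exact hM _ (smul_b_mem_lat τ G N i) _ (smul_b_mem_lat τ F N j)
  have hbD : ∀ i, T N • (G.b i ⊗ₜ[L] (1 : B)) ∈ M := fun i => by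
    rw [TensorProduct.smul_tmul']; exact hM _ (smul_b_mem_lat τ G N i) _ (one_mem_lat τ F N)
  have hbB : ∀ i, T N • ((1 : D) ⊗ₜ[L] F.b i) ∈ M := fun i => by
    rw [← TensorProduct.tmul_smul]; exact hM _ (one_mem_lat τ G N) _ (smul_b_mem_lat τ F N i)
  -- divisibility
  let Sm : ℕ → (D ⊗[L] B) → Prop := fun k z => ∃ y ∈ M, z = T k • y
  have Sm_add : ∀ {k z z'}, Sm k z → Sm k z' → Sm k (z + z') := by
    rintro k _ _ ⟨y, hy, rfl⟩ ⟨y', hy', rfl⟩
    exact ⟨y + y', add_mem hy hy', (smul_add _ _ _).symm⟩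
  have Sm_zero : ∀ k, Sm k 0 := fun k => ⟨0, zero_mem _, (smul_zero _).symm⟩
  have Sm_sum : ∀ {κ : Type} (S : Finset κ) (k : ℕ) (f : κ → (D ⊗[L] B)), (∀ i ∈ S, Sm k (f i)) → Sm k (∑ i ∈ S, f i) :=
    fun S k f h => Finset.sum_induction f (Sm k) (fun _ _ => Sm_add) (Sm_zero k) h
  have Sm_mono : ∀ {k l z}, l ≤ k → Sm k z → Sm l z := by
    rintro k l _ h ⟨y, hy, rfl⟩
    exact ⟨T (k - l) • y, hMs ⟨_, rfl⟩ hy, by rw [smul_smul, ← hT, Nat.add_sub_cancel' h]⟩
  have Sm_mul : ∀ {k : ℕ} (m : ℕ) {z w : (D ⊗[L] B)}, Sm (k + m) z → T m • w ∈ M → Sm k (z * w) := by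
    rintro k m _ w ⟨y, hy, rfl⟩ hw
    refine ⟨y * (T m • w), hMmul _ _ hy hw, ?_⟩
    rw [hT, smul_mul_assoc, mul_smul_comm, smul_smul]
  -- the approximate idempotent
  let e₀ : (D ⊗[L] B) := ∑ i, ∑ j, s i j • (G.b i ⊗ₜ[L] F.b j)
  have he₀M : T (3 * N) • e₀ ∈ M := by
    simp only [e₀, Finset.smul_sum, smul_smul]
    refine M.sum_mem fun i _ => M.sum_mem fun j _ => ?_
    rw [show 3 * N = N + (N + N) by omega, hT, mul_right_comm, mul_smul]
    exact hMs (hs i j) (hbM i j)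
  let h : ι → (D ⊗[L] B) := fun k => e₀ * (G.b k ⊗ₜ[L] 1) - e₀ * (1 ⊗ₜ[L] F.b k)
  have hh : ∀ k, Sm (n - 3 * N) (h k) := by
    intro k
    have hD : ∀ i, G.b i * G.b k = ∑ m, G.φ (G.b k * G.b i) m • G.b m := fun i => by
      rw [mul_comm, G.sum]
    have hB : ∀ i, F.b i * F.b k = ∑ m, F.φ (F.b k * F.b i) m • F.b m := fun i => by
      rw [mul_comm, F.sum]
    have e1 : e₀ * (G.b k ⊗ₜ[L] 1) =
        ∑ m, ∑ j, (∑ i, s i j * G.φ (G.b k * G.b i) m) • (G.b m ⊗ₜ[L] F.b j) := by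
      simp only [e₀, Finset.sum_mul, smul_mul_assoc, Algebra.TensorProduct.tmul_mul_tmul, mul_one, hD,
        sum_smul_tmul, Finset.smul_sum, smul_smul, Finset.sum_smul]
      rw [Finset.sum_comm]
      conv_lhs => enter [2, j]; rw [Finset.sum_comm]
      rw [Finset.sum_comm]
    have e2 : e₀ * (1 ⊗ₜ[L] F.b k) =
        ∑ m, ∑ j, (∑ i, s m i * F.φ (F.b k * F.b i) j) • (G.b m ⊗ₜ[L] F.b j) := by
      simp only [e₀, Finset.sum_mul, smul_mul_assoc, Algebra.TensorProduct.tmul_mul_tmul, mul_one, hB,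
        TensorProduct.tmul_sum, TensorProduct.tmul_smul, Finset.smul_sum, smul_smul, Finset.sum_smul]
      refine Finset.sum_congr rfl fun m _ => ?_
      rw [Finset.sum_comm]
    show Sm _ (e₀ * _ - e₀ * _)
    rw [e1, e2, ← Finset.sum_sub_distrib]
    refine Sm_sum _ _ _ fun m _ => ?_
    rw [← Finset.sum_sub_distrib]
    refine Sm_sum _ _ _ fun j _ => ?_
    rw [← sub_smul, ← hsq, ← Finset.sum_sub_distrib, Finset.sum_smul]
    refine Sm_sum _ _ _ fun i _ => ?_
    obtain ⟨a, ha⟩ := hclose (.inl (k, i, m))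
    obtain ⟨b, hb⟩ := hs i j
    refine ⟨algebraMap A L (a * b) • (T (N + N) • (G.b m ⊗ₜ[L] F.b j)), hMs ⟨_, rfl⟩ (hbM m j), ?_⟩
    rw [← mul_sub, show G.φ (G.b k * G.b i) m - F.φ (F.b k * F.b i) m = algebraMap A L (τ ^ n * a) from ha,
      smul_smul, smul_smul]
    congr 1
    rw [map_mul _ a, hb, map_mul]
    show s i j * (T n * algebraMap A L a) = T (n - 3 * N) * (algebraMap A L a * (T N * s i j)) * T (N + N)
    rw [show T n = T (n - 3 * N) * (T N * T (N + N)) by rw [← hT, ← hT]; congr 1; omega]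
    ring
  have hd : Sm (n - 6 * N) (e₀ * e₀ - e₀) := by
    have e3 : e₀ * e₀ - e₀ = ∑ i, ∑ j, s i j • (h i * (1 ⊗ₜ[L] F.b j)) := by
      have e4 : e₀ * e₀ = ∑ i, ∑ j, s i j • (e₀ * ((G.b i ⊗ₜ[L] 1) * (1 ⊗ₜ[L] F.b j))) := by
        simp only [Algebra.TensorProduct.tmul_mul_tmul, mul_one, one_mul]
        conv_lhs => arg 2; simp only [e₀]
        simp only [Finset.mul_sum, mul_smul_comm]
      have e5 : e₀ = ∑ i, ∑ j, s i j • (e₀ * ((1 ⊗ₜ[L] F.b i) * (1 ⊗ₜ[L] F.b j))) := by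
        have h13 : (∑ i, ∑ j, s i j • ((((1 : D) ⊗ₜ[L] F.b i) * (1 ⊗ₜ[L] F.b j)) : D ⊗[L] B)) = 1 := by
          simp only [Algebra.TensorProduct.tmul_mul_tmul, one_mul, ← TensorProduct.tmul_smul,
            ← TensorProduct.tmul_sum, hsum1]
          rfl
        conv_lhs => rw [← mul_one e₀, ← h13]
        simp only [Finset.mul_sum, mul_smul_comm]
      conv_lhs => arg 2; rw [e5]
      rw [e4, ← Finset.sum_sub_distrib]
      refine Finset.sum_congr rfl fun i _ => ?_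
      rw [← Finset.sum_sub_distrib]
      refine Finset.sum_congr rfl fun j _ => ?_
      rw [← smul_sub]
      congr 1
      simp only [h, sub_mul, mul_assoc]
    rw [e3]
    refine Sm_sum _ _ _ fun i _ => Sm_sum _ _ _ fun j _ => ?_
    have h2 : T (2 * N) • (s i j • ((1 : D) ⊗ₜ[L] F.b j)) ∈ M := by
      rw [two_mul, hT, smul_smul, show T N * T N * s i j = (T N * s i j) * T N by ring, mul_smul]
      exact hMs (hs i j) (hbB j)
    rw [← mul_smul_comm]
    exact Sm_mul (2 * N) (Sm_mono (by omega) (hh i)) h2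
  obtain ⟨d', hd'M, hd'⟩ := hd
  have hAE : ∀ (k : ℕ) (z : (D ⊗[L] B)), T k • z = algebraMap A (D ⊗[L] B) (τ ^ k) * z := fun k z => by
    show algebraMap A L (τ ^ k) • z = _
    rw [algebraMap_smul, Algebra.smul_def]
  have hEτ : IsUnit (algebraMap A (D ⊗[L] B) τ) := by
    rw [IsScalarTower.algebraMap_apply A L (D ⊗[L] B)]; exact hu.map _
  obtain ⟨e, w, he, hw, hew⟩ := exists_idempotent_near τ hEτ Λ e₀ (6 * N + 3) (by
      rw [← hAE]; exact hMT (by omega) he₀M)
    (n - 6 * N) (by omega) d' hd'M (by rw [← hAE]; exact hd')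
  rw [← hAE] at hew
  have heM : T (3 * N) • e ∈ M := by
    rw [hew, smul_add]; exact add_mem he₀M (hMs ⟨_, rfl⟩ (hMs ⟨_, rfl⟩ hw))
  let h' : ι → (D ⊗[L] B) := fun k => e * (G.b k ⊗ₜ[L] 1) - e * (1 ⊗ₜ[L] F.b k)
  have hh' : ∀ k, Sm (5 * N + 4) (h' k) := by
    intro k
    have : h' k = h k + ((T (6 * N + 3 + 1) • w) * (G.b k ⊗ₜ[L] 1 - 1 ⊗ₜ[L] F.b k)) := by
      simp only [h', h, hew]; ring
    rw [this]
    refine Sm_add (Sm_mono (by omega) (hh k)) (Sm_mul N ?_ ?_)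
    · exact Sm_mono (by omega) ⟨w, hw, rfl⟩
    · rw [smul_sub]; exact sub_mem (hbD k) (hbB k)
  -- maps to `B`
  let θ : D →ₗ[L] B := (Fintype.linearCombination L F.b).comp G.φ
  have hθ : ∀ i, θ (G.b i) = F.b i := fun i => by
    show Fintype.linearCombination L F.b (G.φ (G.b i)) = _
    rw [Fintype.linearCombination_apply]
    conv_rhs => rw [← F.sum_b i]
    simp only [G.coord]
  let Θ : B →ₗ[L] D := (Fintype.linearCombination L G.b).comp F.φ
  have hΘ : ∀ i, Θ (F.b i) = G.b i := fun i => by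
    show Fintype.linearCombination L G.b (F.φ (F.b i)) = _
    rw [Fintype.linearCombination_apply]
    conv_rhs => rw [← G.sum_b i]
    simp only [F.coord]
  have hθΘ : ∀ y, θ (Θ y) = y := fun y => by
    conv_lhs => rw [← F.sum y]
    simp only [map_sum, map_smul, hθ, hΘ]
    exact F.sum y
  have hΘθ : ∀ y, Θ (θ y) = y := fun y => by
    conv_lhs => rw [← G.sum y]
    simp only [map_sum, map_smul, hθ, hΘ]
    exact G.sum y
  let Ψ : (D ⊗[L] B) →ₗ[L] B := TensorProduct.lift ((LinearMap.mul L B).comp θ)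
  have hΨ : ∀ x y, Ψ (x ⊗ₜ[L] y) = θ x * y := fun x y => rfl
  let ιB : B →ₗ[L] (D ⊗[L] B) := (LinearMap.mulLeft L e).comp (TensorProduct.mk L D B 1)
  let ιD : D →ₗ[L] (D ⊗[L] B) := (LinearMap.mulLeft L e).comp ((TensorProduct.mk L D B).flip 1)
  have hιB : ∀ y, ιB y = e * (1 ⊗ₜ[L] y) := fun _ => rfl
  have hιD : ∀ x, ιD x = e * (x ⊗ₜ[L] 1) := fun _ => rfl
  have hθ1 : T (2 * N) • θ 1 ∈ MB := by
    conv => enter [2, 2]; rw [← G.sum 1]
    simp only [map_sum, map_smul, hθ, Finset.smul_sum, smul_smul]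
    refine MB.sum_mem fun i _ => ?_
    rw [two_mul, hT, mul_right_comm, mul_smul]
    refine mem_lat_smul τ F N ?_ (smul_b_mem_lat τ F N i)
    obtain ⟨a, ha⟩ := hclose (.inr (.inl i))
    obtain ⟨b, hb⟩ := hint (.inr (.inl i))
    refine ⟨b + τ ^ N * (τ ^ n * a), ?_⟩
    rw [map_add, hb, map_mul _ (τ ^ N), ← ha]
    show T N * F.φ 1 i + T N * (G.φ 1 i - F.φ 1 i) = T N * G.φ 1 i
    ring
  have hΨM : ∀ z ∈ M, T (2 * N) • Ψ z ∈ MB := by
    intro z hz
    induction hz using Submodule.span_induction with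
    | mem x hx =>
      obtain ⟨⟨o, o'⟩, rfl⟩ := hx
      show T (2 * N) • Ψ (gen τ G N o ⊗ₜ[L] gen τ F N o') ∈ MB
      rw [hΨ, ← smul_mul_assoc]
      refine mul_mem_lat τ F N hcB ?_ (Submodule.subset_span ⟨o', rfl⟩)
      rcases o with _ | i
      · exact hθ1
      · show T (2 * N) • θ (T N • G.b i) ∈ _
        rw [map_smul, hθ]
        exact mem_lat_smul τ F N ⟨_, rfl⟩ (smul_b_mem_lat τ F N i)
    | zero => simp
    | add a b _ _ ha hb => rw [map_add, smul_add]; exact add_mem ha hb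
    | smul a b _ hb =>
      rw [← algebraMap_smul L a b, map_smul, smul_comm, algebraMap_smul]
      exact MB.smul_mem a hb
  have Ψ_small : ∀ {k : ℕ} {z : (D ⊗[L] B)}, Sm (k + 2 * N) z → ∃ y ∈ MB, Ψ z = T k • y := by
    rintro k _ ⟨y, hy, rfl⟩
    exact ⟨T (2 * N) • Ψ y, hΨM y hy, by rw [map_smul, smul_smul, hT]⟩
  have hΨe₀ : ∀ y, Ψ (e₀ * (1 ⊗ₜ[L] y)) = y := fun y => by
    simp only [e₀, Finset.sum_mul, smul_mul_assoc, Algebra.TensorProduct.tmul_mul_tmul, mul_one,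
      map_sum, map_smul, hΨ, hθ]
    calc ∑ i, ∑ j, s i j • (F.b i * (F.b j * y)) = (∑ i, ∑ j, s i j • (F.b i * F.b j)) * y := by
          simp only [Finset.sum_mul, smul_mul_assoc, mul_assoc]
      _ = y := by rw [hsum1, one_mul]
  have hjac : Ideal.span {τ} ≤ (⊥ : Ideal A).jacobson := HenselianRing.jac
  have htop : ∀ f : B →ₗ[L] B, (∀ o, ∃ y ∈ MB, f (gen τ F N o) - gen τ F N o = T 1 • y) →
      Function.Surjective f := by
    intro f hf
    have hle : MB ≤ MB.map (f.restrictScalars A) := by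
      refine Submodule.le_of_le_smul_of_le_jacobson_bot (fg_lat τ F N) hjac
        (Submodule.span_le.2 ?_)
      rintro _ ⟨o, rfl⟩
      obtain ⟨y, hy, hyo⟩ := hf o
      refine Submodule.mem_sup.2 ⟨f (gen τ F N o), ⟨_, Submodule.subset_span ⟨o, rfl⟩, rfl⟩, -(T 1 • y), ?_, ?_⟩
      · refine neg_mem ?_
        show algebraMap A L (τ ^ 1) • y ∈ _
        rw [algebraMap_smul, pow_one]
        exact Submodule.smul_mem_smul (Ideal.mem_span_singleton_self τ) hy
      · rw [← hyo]; abel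
    intro y
    obtain ⟨k, hk⟩ := exists_pow_smul_mem τ F N hsurj y
    obtain ⟨x, -, hx⟩ := hle hk
    obtain ⟨c, hc⟩ := hTu k
    refine ⟨(↑c⁻¹ : L) • x, ?_⟩
    rw [map_smul, show f x = T k • y from hx, smul_smul, ← hc, Units.inv_mul, one_smul]
  haveI : Module.Finite L B := by
    refine ⟨Submodule.fg_def.2 ⟨Set.range F.b, Set.finite_range _, top_le_iff.1 fun y _ => ?_⟩⟩
    rw [← F.sum y]
    exact Submodule.sum_mem _ fun i _ => Submodule.smul_mem _ _ (Submodule.subset_span ⟨i, rfl⟩)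
  let f : B →ₗ[L] B := Ψ.comp ιB
  let g : B →ₗ[L] B := (Ψ.comp ιD).comp Θ
  have hgenM : ∀ o, (1 : D) ⊗ₜ[L] gen τ F N o ∈ M := fun o =>
    hM _ (one_mem_lat τ G N) _ (Submodule.subset_span ⟨o, rfl⟩)
  have hf : Function.Surjective f := htop f fun o => by
    have : f (gen τ F N o) - gen τ F N o =
        Ψ ((T (6 * N + 3 + 1) • w) * (1 ⊗ₜ[L] gen τ F N o)) := by
      conv_lhs => arg 2; rw [← hΨe₀ (gen τ F N o)]
      show Ψ (e * ((1 : D) ⊗ₜ[L] gen τ F N o)) - _ = _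
      rw [← map_sub, hew, add_mul, add_sub_cancel_left]
    rw [this]
    exact Ψ_small ⟨T (6 * N + 4 - (1 + 2 * N)) • (w * (1 ⊗ₜ[L] gen τ F N o)),
      hMs ⟨_, rfl⟩ (hMmul _ _ hw (hgenM o)), by
        rw [smul_smul, ← hT, smul_mul_assoc]; congr 2; omega⟩
  have hfi : Function.Injective f := OrzechProperty.injective_of_surjective_endomorphism f hf
  have hιi : Function.Injective ιB := fun a b hab => hfi (congrArg Ψ hab)
  have he' : ∀ z, e * (e * z) = e * z := fun z => by rw [← mul_assoc, he.eq]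
  have hh'e : ∀ k, e * h' k = h' k := fun k => by simp only [h', mul_sub, he']
  -- surjectivity of `ιB` onto `e * (D ⊗[L] B)`
  have hspan : ∀ z, ∃ y, ιB y = e * z := by
    let X : Submodule A (D ⊗[L] B) := M.map (LinearMap.mulLeft A e)
    let X₀ : Submodule A (D ⊗[L] B) := MB.map (ιB.restrictScalars A)
    have hle : X ≤ X₀ := by
      refine Submodule.le_of_le_smul_of_le_jacobson_bot
        ((Submodule.fg_span (Set.finite_range _)).map _) hjac ?_
      show (Submodule.span A _).map _ ≤ _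
      rw [Submodule.map_span, Submodule.span_le]
      rintro _ ⟨_, ⟨⟨o, o'⟩, rfl⟩, rfl⟩
      show e * (gen τ G N o ⊗ₜ[L] gen τ F N o') ∈ X₀ ⊔ Ideal.span {τ} • X
      rcases o with _ | i
      · exact Submodule.mem_sup_left ⟨gen τ F N o', Submodule.subset_span ⟨o', rfl⟩, rfl⟩
      · have h10 : e * ((T N • G.b i) ⊗ₜ[L] gen τ F N o') =
            ιB ((T N • F.b i) * gen τ F N o') + T N • (h' i * (1 ⊗ₜ[L] gen τ F N o')) := by
          rw [hιB]
          simp only [h', sub_mul, mul_assoc, Algebra.TensorProduct.tmul_mul_tmul, one_mul, mul_one]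
          rw [← TensorProduct.smul_tmul' (T N), smul_mul_assoc, TensorProduct.tmul_smul, mul_smul_comm,
            mul_smul_comm, smul_sub, add_sub_cancel]
        show e * ((T N • G.b i) ⊗ₜ[L] gen τ F N o') ∈ _
        rw [h10]
        refine Submodule.add_mem_sup ⟨_, mul_mem_lat τ F N hcB (smul_b_mem_lat τ F N i)
          (Submodule.subset_span ⟨o', rfl⟩), rfl⟩ ?_
        obtain ⟨y, hy, hyi⟩ := Sm_mono (show 1 ≤ 5 * N + 4 by omega) (hh' i)
        have h11 : T N • (h' i * (1 ⊗ₜ[L] gen τ F N o')) =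
            τ • (e * (T N • (y * (1 ⊗ₜ[L] gen τ F N o')))) := by
          rw [← hh'e i, hyi, ← algebraMap_smul L τ]
          simp only [smul_mul_assoc, mul_smul_comm, smul_smul, mul_assoc, T, pow_one]
          rw [mul_comm (algebraMap A L (τ ^ N))]
        rw [h11]
        exact Submodule.smul_mem_smul (Ideal.mem_span_singleton_self τ)
          ⟨_, hMs ⟨_, rfl⟩ (hMmul _ _ hy (hgenM o')), rfl⟩
    intro z
    have hzk : ∃ k, T k • z ∈ M := by
      induction z using TensorProduct.induction_on with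
      | zero => exact ⟨0, by simp⟩
      | tmul x y =>
        obtain ⟨k, hk⟩ := exists_pow_smul_mem τ G N hsurj x
        obtain ⟨l, hl⟩ := exists_pow_smul_mem τ F N hsurj y
        exact ⟨k + l, by rw [hT, ← smul_tmul_smul]; exact hM _ hk _ hl⟩
      | add a b ha hb =>
        obtain ⟨k, hk⟩ := ha
        obtain ⟨l, hl⟩ := hb
        exact ⟨k + l, by rw [smul_add]; exact add_mem (hMT (by omega) hk) (hMT (by omega) hl)⟩
    obtain ⟨k, hk⟩ := hzk
    obtain ⟨y, -, hy⟩ := hle (Submodule.mem_map_of_mem (f := LinearMap.mulLeft A e) hk)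
    obtain ⟨c, hc⟩ := hTu k
    refine ⟨(↑c⁻¹ : L) • y, ?_⟩
    rw [map_smul, show ιB y = e * (T k • z) from hy, mul_smul_comm, smul_smul, ← hc, Units.inv_mul, one_smul]
  have hg : Function.Surjective g := htop g fun o => by
    have hgb : ∀ i, g (F.b i) - f (F.b i) = Ψ (h' i) := fun i => by
      show Ψ (e * (Θ (F.b i) ⊗ₜ[L] 1)) - Ψ (e * ((1 : D) ⊗ₜ[L] F.b i)) = _
      rw [hΘ, ← map_sub]
    have hsm : ∀ i, ∃ y ∈ MB, g (F.b i) - F.b i = T (3 * N + 1) • y := fun i => by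
      have : g (F.b i) - F.b i = Ψ (h' i + (T (6 * N + 3 + 1) • w) * (1 ⊗ₜ[L] F.b i)) := by
        rw [map_add, ← hgb]
        have : f (F.b i) - F.b i = Ψ ((T (6 * N + 3 + 1) • w) * (1 ⊗ₜ[L] F.b i)) := by
          conv_lhs => arg 2; rw [← hΨe₀ (F.b i)]
          show Ψ (e * ((1 : D) ⊗ₜ[L] F.b i)) - _ = _
          rw [← map_sub, hew, add_mul, add_sub_cancel_left]
        rw [← this]; abel
      rw [this]
      refine Ψ_small (Sm_add (Sm_mono (by omega) (hh' i)) (Sm_mul N ?_ (hbB i)))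
      exact Sm_mono (by omega) ⟨w, hw, rfl⟩
    choose y hy hyi using hsm
    rcases o with _ | i
    · -- `1` is a combination of the generators
      refine ⟨∑ i, (T N * F.φ 1 i) • (T (2 * N) • y i), MB.sum_mem fun i _ =>
        mem_lat_smul τ F N (hint (.inr (.inl i))) (mem_lat_smul τ F N ⟨_, rfl⟩ (hy i)), ?_⟩
      show g 1 - 1 = _
      conv_lhs => rw [← F.sum 1]
      simp only [map_sum, map_smul, ← Finset.sum_sub_distrib, ← smul_sub, hyi, Finset.smul_sum, smul_smul]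
      refine Finset.sum_congr rfl fun i _ => ?_
      congr 1
      rw [show 3 * N + 1 = 1 + (N + 2 * N) by omega, hT, hT]; ring
    · refine ⟨T (4 * N) • y i, mem_lat_smul τ F N ⟨_, rfl⟩ (hy i), ?_⟩
      show g (T N • F.b i) - T N • F.b i = _
      rw [map_smul, ← smul_sub, hyi, smul_smul, smul_smul, ← hT, ← hT]
      congr 2; omega
  have hgi : Function.Injective g := OrzechProperty.injective_of_surjective_endomorphism g hg
  choose ξ hξ using fun x : D => hspan (x ⊗ₜ[L] 1)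
  have hξe : ∀ x y, e * (1 ⊗ₜ[L] y) = e * (x ⊗ₜ[L] 1) → ξ x = y := fun x y hxy =>
    hιi ((hξ x).trans hxy.symm)
  let Ξ : D →ₐ[L] B :=
    { toFun := ξ
      map_one' := hξe _ _ rfl
      map_mul' := fun x x' => hξe _ _ (by
        rw [show (1 : D) ⊗ₜ[L] (ξ x * ξ x') = (1 ⊗ₜ[L] ξ x) * (1 ⊗ₜ[L] ξ x') by simp,
          show (x * x') ⊗ₜ[L] (1 : B) = (x ⊗ₜ[L] 1) * (x' ⊗ₜ[L] 1) by simp,
          ← mul_assoc, ← hιB, hξ, mul_right_comm, ← hιB, hξ]
        ring)
      map_zero' := hξe _ _ (by simp)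
      map_add' := fun x x' => hξe _ _ (by
        rw [TensorProduct.tmul_add, TensorProduct.add_tmul, mul_add, mul_add, ← hιB, ← hιB, hξ, hξ])
      commutes' := fun r => hξe _ _ (by
        rw [Algebra.algebraMap_eq_smul_one, Algebra.algebraMap_eq_smul_one, TensorProduct.tmul_smul,
          ← TensorProduct.smul_tmul']) }
  have hfg : ∀ x, f (ξ x) = g (θ x) := fun x => by
    show Ψ (ιB (ξ x)) = Ψ (ιD (Θ (θ x)))
    rw [hξ, hΘθ]; rfl
  refine ⟨AlgEquiv.ofBijective Ξ ⟨fun x x' hxx => ?_, fun y => ?_⟩⟩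
  · have h12 : g (θ x) = g (θ x') := by
      rw [← hfg, ← hfg]; exact congrArg f hxx
    rw [← hΘθ x, ← hΘθ x', hgi h12]
  · obtain ⟨z, hz⟩ := hg (f y)
    refine ⟨Θ z, hfi ?_⟩
    show f (ξ (Θ z)) = f y
    rw [hfg, hθΘ, hz]

end Groth.Agent.EtStrLib
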