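import Mathlib
import Groth.Agent.EtStrLib.Basic
import Groth.Agent.Hensel.FiniteEtale

/-!
The universal algebra of finite étale structures on the image of an idempotent matrix is smooth.
-/

set_option autoImplicit false
set_option linter.all false

universe u

namespace Groth.Agent.EtStrLib

open TensorProduct MvPolynomial

variable {ι : Type} [Fintype ι] [DecidableEq ι] {L : Type u} [CommRing L] (P : Matrix ι ι L)

/-- The ideal of the equations. -/
noncomputable def idl : Ideal (MvPolynomial (Var ι) L) :=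
  Ideal.span (Set.range fun e => eqs (P.map MvPolynomial.C) MvPolynomial.X e)

/-- The universal algebra of structures. -/
abbrev Univ : Type u := MvPolynomial (Var ι) L ⧸ idl P

theorem map_map_C {D : Type*} [CommRing D] [Algebra L D] (f : MvPolynomial (Var ι) L →ₐ[L] D) :
    (P.map (MvPolynomial.C : L →+* MvPolynomial (Var ι) L)).map f = P.map (algebraMap L D) := by
  ext i j
  simp only [Matrix.map_apply, ← MvPolynomial.algebraMap_eq, AlgHom.commutes]

/-- The constants of a point. -/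
noncomputable def ptOf {D : Type*} [CommRing D] [Algebra L D] (f : Univ P →ₐ[L] D) : Var ι → D :=
  fun x => f (Ideal.Quotient.mk _ (X x))

theorem isPt_ptOf {D : Type*} [CommRing D] [Algebra L D] (f : Univ P →ₐ[L] D) :
    IsPt (P.map (algebraMap L D)) (ptOf P f) := fun e => by
  let h : MvPolynomial (Var ι) L →ₐ[L] D := f.comp (Ideal.Quotient.mkₐ L _)
  have h1 := eqs_map h (P.map MvPolynomial.C) MvPolynomial.X e
  rw [map_map_C] at h1
  refine h1.symm.trans ?_
  show f (Ideal.Quotient.mk _ _) = 0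
  have : eqs (P.map MvPolynomial.C) MvPolynomial.X e ∈ idl P :=
    Ideal.subset_span (Set.mem_range_self e)
  rw [Ideal.Quotient.eq_zero_iff_mem.2 this, map_zero]

/-- The point with given constants. -/
theorem exists_point {D : Type*} [CommRing D] [Algebra L D] (v : Var ι → D)
    (hv : IsPt (P.map (algebraMap L D)) v) : ∃ f : Univ P →ₐ[L] D, ptOf P f = v := by
  refine ⟨Ideal.Quotient.liftₐ _ (aeval v) ?_, funext fun x => ?_⟩
  · intro a ha
    refine (Ideal.span_le (I := RingHom.ker (aeval v : MvPolynomial (Var ι) L →ₐ[L] D))).2 ?_ ha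
    rintro _ ⟨e, rfl⟩
    show aeval v (eqs _ _ e) = 0
    rw [eqs_map (aeval v : MvPolynomial (Var ι) L →ₐ[L] D), map_map_C]
    simp only [aeval_X]
    exact hv e
  · exact aeval_X v x

instance finitePresentation : Algebra.FinitePresentation L (Univ P) :=
  Algebra.FinitePresentation.quotient (Submodule.fg_span (Set.finite_range _))

/-- Structures lift along square zero thickenings. -/
theorem exists_lift {C : Type u} [CommRing C] (I : Ideal C) (hI : I ^ 2 = ⊥) {P : Matrix ι ι C}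
    (hP : P * P = P) (v₀ : Var ι → C ⧸ I) (hv₀ : IsPt (P.map (Ideal.Quotient.mk I)) v₀) :
    ∃ v : Var ι → C, IsPt P v ∧ ∀ x, Ideal.Quotient.mk I (v x) = v₀ x := by
  classical
  let mkI := Ideal.Quotient.mk I
  have hP₀ : P.map mkI * P.map mkI = P.map mkI := by rw [← Matrix.map_mul, hP]
  obtain ⟨B₀, _, _, _, _, F₀, ε₀, hε₀, hε₀', hcon⟩ := exists_algebra hP₀ hv₀
  letI : Algebra C B₀ := ((algebraMap (C ⧸ I) B₀).comp mkI).toAlgebra
  haveI : IsScalarTower C (C ⧸ I) B₀ := IsScalarTower.of_algebraMap_eq fun _ => rfl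
  obtain ⟨B, _, _, _, Φ, hΦ, hker⟩ := Hensel.exists_etale_lift_of_quotient (A := C) (I := I) B₀
  have hsm : ∀ (r : C) (x : B₀), r • x = mkI r • x := fun r x => by
    rw [Algebra.smul_def, Algebra.smul_def]; rfl
  have hΦs : ∀ (r : C) (y : B), Φ (r • y) = mkI r • Φ y := fun r y => by rw [map_smul, hsm]
  have hI' : ∀ y : B, Φ y = 0 → y ∈ I • (⊤ : Submodule C B) := fun y hy => by
    rw [Ideal.smul_top_eq_map, Submodule.restrictScalars_mem, ← hker]; exact hy
  have hI2 : ∀ N : Submodule C B, I • I • N = ⊥ := fun N => by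
    rw [← Submodule.smul_assoc, smul_eq_mul, ← pow_two, hI, Submodule.bot_smul]
  choose bt hbt using fun k => hΦ (F₀.b k)
  -- finiteness
  haveI : Module.Finite C B := by
    obtain ⟨S₀, hS₀⟩ := (inferInstance : Module.Finite (C ⧸ I) B₀).fg_top
    choose lift hlift using fun y : B₀ => hΦ y
    let N : Submodule C B := Submodule.span C (lift '' (S₀ : Set B₀))
    have hN : ∀ y : B₀, ∃ n ∈ N, Φ n = y := fun y => by
      have hy : y ∈ Submodule.span (C ⧸ I) (S₀ : Set B₀) := by rw [hS₀]; trivial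
      induction hy using Submodule.span_induction with
      | mem x hx => exact ⟨lift x, Submodule.subset_span ⟨x, hx, rfl⟩, hlift x⟩
      | zero => exact ⟨0, zero_mem _, map_zero _⟩
      | add x y _ _ hx hy =>
        obtain ⟨a, ha, rfl⟩ := hx
        obtain ⟨b, hb, rfl⟩ := hy
        exact ⟨a + b, add_mem ha hb, map_add _ _ _⟩
      | smul r x _ hx =>
        obtain ⟨a, ha, rfl⟩ := hx
        obtain ⟨r, rfl⟩ := Ideal.Quotient.mk_surjective r
        exact ⟨r • a, N.smul_mem r ha, hΦs r a⟩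
    have h1 : (⊤ : Submodule C B) ≤ N ⊔ I • ⊤ := fun y _ => by
      obtain ⟨n, hn, hny⟩ := hN (Φ y)
      have : y - n ∈ I • (⊤ : Submodule C B) := hI' _ (by rw [map_sub, hny, sub_self])
      simpa using Submodule.add_mem_sup hn this
    have h2 : I • (⊤ : Submodule C B) ≤ N := by
      refine (Submodule.smul_mono le_rfl h1).trans ?_
      rw [Submodule.smul_sup, hI2, sup_bot_eq]
      exact Submodule.smul_le_right
    have h3 : (Submodule.span C (lift '' (S₀ : Set B₀))) = ⊤ :=
      top_le_iff.1 (h1.trans (sup_le le_rfl h2))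
    exact ⟨Submodule.fg_def.2 ⟨_, S₀.finite_toSet.image lift, h3⟩⟩
  haveI : Module.FinitePresentation C B := Module.FinitePresentation.of_finite_of_finitePresentation C B
  haveI : Module.Projective C B := Module.Flat.projective_of_finitePresentation
  -- coordinates
  let q : (ι → C) →ₗ[C] (ι → C ⧸ I) := LinearMap.pi fun i => (I.mkQ).comp (LinearMap.proj i)
  have hq : ∀ z i, q z i = mkI (z i) := fun z i => rfl
  have hqs : Function.Surjective q := fun z => by
    choose w hw using fun i => Ideal.Quotient.mk_surjective (z i)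
    exact ⟨w, funext hw⟩
  let φ₀' : B →ₗ[C] (ι → C ⧸ I) :=
    { toFun := fun y => F₀.φ (Φ y)
      map_add' := fun y z => by simp
      map_smul' := fun r y => by
        funext i
        simp only [hΦs, map_smul, Pi.smul_apply, RingHom.id_apply]
        rw [smul_eq_mul, Algebra.smul_def]; rfl }
  obtain ⟨φ₁, hφ₁⟩ := Module.projective_lifting_property q φ₀' hqs
  let φ₂ : B →ₗ[C] (ι → C) := P.mulVecLin.comp φ₁
  have hqP : ∀ z i, q (P.mulVec z) i = ∑ l, mkI (P i l) * q z l := fun z i => by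
    simp only [hq, Matrix.mulVec, dotProduct, map_sum, map_mul]
  have hφ₂ : ∀ y, q (φ₂ y) = F₀.φ (Φ y) := fun y => funext fun i => by
    show q (P.mulVec (φ₁ y)) i = _
    rw [hqP, show q (φ₁ y) = F₀.φ (Φ y) from LinearMap.congr_fun hφ₁ y]
    exact F₀.φ_supp (Φ y) i
  let ψ : (ι → C) →ₗ[C] B := (Fintype.linearCombination C bt).comp P.mulVecLin
  have hψ : ∀ z, Φ (ψ z) = ∑ i, (∑ l, mkI (P i l) * q z l) • F₀.b i := fun z => by
    show Φ (Fintype.linearCombination C bt (P.mulVec z)) = _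
    rw [Fintype.linearCombination_apply, map_sum]
    simp only [hΦs, hbt, ← hqP]
    rfl
  have hψP : ∀ z, ψ (P.mulVec z) = ψ z := fun z => by
    show Fintype.linearCombination C bt (P.mulVec (P.mulVec z)) = _
    rw [Matrix.mulVec_mulVec, hP]
    rfl
  let a' : B →ₗ[C] B := ψ.comp φ₂ - LinearMap.id
  have ha' : ∀ y, Φ (a' y) = 0 := fun y => by
    show Φ (ψ (φ₂ y) - y) = 0
    rw [map_sub, sub_eq_zero, hψ, hφ₂]
    conv_rhs => rw [← F₀.sum (Φ y)]
    exact Finset.sum_congr rfl fun i _ => by rw [← F₀.φ_supp (Φ y) i]; rfl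
  have ha'2 : ∀ y, a' (a' y) = 0 := fun y => by
    have h1 : a' (a' y) ∈ (I • (⊤ : Submodule C B)).map a' := Submodule.mem_map_of_mem (hI' _ (ha' y))
    rw [Submodule.map_smul''] at h1
    have h2 : (⊤ : Submodule C B).map a' ≤ I • ⊤ := by
      rintro _ ⟨w, -, rfl⟩; exact hI' _ (ha' w)
    have h3 := Submodule.smul_mono le_rfl h2 h1
    rwa [hI2, Submodule.mem_bot] at h3
  let φ : B →ₗ[C] (ι → C) := φ₂.comp (LinearMap.id - a')
  have hψφ : ∀ y, ψ (φ y) = y := fun y => by
    have h1 : ψ (φ₂ (y - a' y)) = a' (y - a' y) + (y - a' y) := by simp [a']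
    show ψ (φ₂ (y - a' y)) = y
    rw [h1, map_sub, ha'2]; abel
  have hqφ : ∀ y, q (φ y) = F₀.φ (Φ y) := fun y => by
    show q (φ₂ (y - a' y)) = _
    rw [hφ₂, map_sub, ha', sub_zero]
  have hPφ : ∀ y, P.mulVec (φ y) = φ y := fun y => by
    show P.mulVec (P.mulVec (φ₁ (y - a' y))) = P.mulVec (φ₁ (y - a' y))
    rw [Matrix.mulVec_mulVec, hP]
  let E : (ι → C) →ₗ[C] (ι → C) := P.mulVecLin - φ.comp ψ
  have hE0 : ∀ z i, E z i ∈ I := fun z i => by
    rw [← Ideal.Quotient.eq_zero_iff_mem]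
    show mkI ((P.mulVec z) i - φ (ψ z) i) = 0
    rw [map_sub, sub_eq_zero, ← hq, ← hq, hqφ, hψ, hqP]
    simp only [map_sum, map_smul, Finset.sum_apply, Pi.smul_apply, smul_eq_mul, F₀.coord, Matrix.map_apply]
    simp only [Finset.sum_mul]
    rw [Finset.sum_comm]
    refine Finset.sum_congr rfl fun l _ => ?_
    have := congrFun (congrFun hP₀ i) l
    rw [Matrix.mul_apply] at this
    simp only [Matrix.map_apply] at this
    rw [← this, Finset.sum_mul]
    exact Finset.sum_congr rfl fun j _ => by ring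
  have hEE : ∀ z, E (E z) = E z := fun z => by
    show P.mulVec (P.mulVec z - φ (ψ z)) - φ (ψ (P.mulVec z - φ (ψ z))) = P.mulVec z - φ (ψ z)
    rw [Matrix.mulVec_sub, Matrix.mulVec_mulVec, hP, hPφ, map_sub, hψP, hψφ, sub_self, map_zero, sub_zero]
  have hE : ∀ z, E z = 0 := fun z => by
    rw [← hEE]
    funext i
    rw [pi_eq_sum_univ' (E z), map_sum, Finset.sum_apply, Pi.zero_apply]
    refine Finset.sum_eq_zero fun l _ => ?_
    rw [map_smul, Pi.smul_apply, smul_eq_mul, ← Ideal.mem_bot, ← hI, pow_two]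
    exact Ideal.mul_mem_mul (hE0 _ _) (hE0 _ _)
  let F : Frame P B :=
    { b := fun k => ψ (Pi.single k 1)
      φ := φ
      sum := fun y => by
        conv_rhs => rw [← hψφ y, pi_eq_sum_univ' (φ y)]
        rw [map_sum]
        exact Finset.sum_congr rfl fun i _ => (map_smul ψ _ _).symm
      coord := fun k i => by
        have h1 := congrFun (hE (Pi.single k 1)) i
        rw [show E (Pi.single k 1) i = P.mulVec (Pi.single k 1) i - φ (ψ (Pi.single k 1)) i from rfl,
          Pi.zero_apply, sub_eq_zero] at h1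
        rw [← h1]
        simp [Matrix.mulVec_single] }
  have hFb : ∀ k, Φ (F.b k) = F₀.b k := fun k => by
    show Φ (ψ (Pi.single k 1)) = _
    rw [hψ]
    conv_rhs => rw [← F₀.sum_b k]
    refine Finset.sum_congr rfl fun i _ => ?_
    congr 1
    rw [Finset.sum_eq_single k (fun l _ hl => by simp [hq, Pi.single_eq_of_ne hl]) (by simp)]
    simp [hq]
  let ε := Algebra.FormallyUnramified.elem C B
  have hε1 : ∀ x : B, (1 ⊗ₜ x - x ⊗ₜ 1) * ε = 0 := fun x =>
    Algebra.FormallyUnramified.one_tmul_sub_tmul_one_mul_elem x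
  have hε2 : Algebra.TensorProduct.lmul' C ε = 1 := Algebra.FormallyUnramified.lmul_elem
  refine ⟨F.consts ε, F.isPt ε hε1 hε2, fun x => ?_⟩
  let Φ₂ : B ⊗[C] B →ₐ[C] B₀ ⊗[C ⧸ I] B₀ := Algebra.TensorProduct.lift
    (((Algebra.TensorProduct.includeLeft : B₀ →ₐ[C ⧸ I] B₀ ⊗[C ⧸ I] B₀).restrictScalars C).comp Φ)
    (((Algebra.TensorProduct.includeRight (R := C ⧸ I) (A := B₀) (B := B₀)).restrictScalars C).comp Φ)
    (fun _ _ => Commute.all _ _)
  have hΦ₂ : ∀ a b, Φ₂ (a ⊗ₜ b) = Φ a ⊗ₜ Φ b := fun a b => by simp [Φ₂]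
  have hΦε : Φ₂ ε = ε₀ := by
    refine elem_unique _ _ (fun y => ?_) ?_ hε₀ hε₀'
    · obtain ⟨y, rfl⟩ := hΦ y
      have h1 : Φ₂ (1 ⊗ₜ y - y ⊗ₜ 1) = 1 ⊗ₜ Φ y - Φ y ⊗ₜ 1 := by simp [hΦ₂]
      rw [← h1, ← map_mul, hε1, map_zero]
    · have h1 : ((Algebra.TensorProduct.lmul' (C ⧸ I) (S := B₀)).restrictScalars C).comp Φ₂ =
          Φ.comp (Algebra.TensorProduct.lmul' C (S := B)) := by
        refine Algebra.TensorProduct.ext' fun a b => ?_
        simp [hΦ₂]
      have h2 := AlgHom.congr_fun h1 ε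
      rw [AlgHom.comp_apply, AlgHom.comp_apply, hε2, map_one] at h2
      exact h2
  have hφ₂2 : ∀ (z : B ⊗[C] B) (i j : ι), mkI (F.φ₂ z i j) = F₀.φ₂ (Φ₂ z) i j := fun z i j => by
    induction z using TensorProduct.induction_on with
    | zero => simp
    | tmul a b =>
      rw [hΦ₂, Frame.φ₂_tmul, Frame.φ₂_tmul, map_mul, ← hqφ, ← hqφ, hq, hq]
    | add a b ha hb => simp [ha, hb]
  rw [← hcon]
  rcases x with ⟨i, j, m⟩ | i | ⟨i, j⟩
  · show mkI (φ (F.b i * F.b j) m) = F₀.φ (F₀.b i * F₀.b j) m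
    rw [← hq, hqφ, map_mul, hFb, hFb]
  · show mkI (φ 1 i) = F₀.φ 1 i
    rw [← hq, hqφ, map_one]
  · show mkI (F.φ₂ ε i j) = F₀.φ₂ ε₀ i j
    rw [hφ₂2, hΦε]

theorem formallySmooth (hP : P * P = P) : Algebra.FormallySmooth L (Univ P) := by
  rw [Algebra.FormallySmooth.iff_comp_surjective]
  intro D _ _ I hI f
  have h0 := isPt_ptOf P f
  have hmap : (P.map (algebraMap L D)).map (Ideal.Quotient.mk I) = P.map (algebraMap L (D ⧸ I)) := rfl
  rw [← hmap] at h0
  obtain ⟨v, hv, hvf⟩ := exists_lift I hI (P := P.map (algebraMap L D))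
    (by rw [← Matrix.map_mul, hP]) (ptOf P f) h0
  obtain ⟨g, hg⟩ := exists_point P v hv
  refine ⟨g, Ideal.Quotient.algHom_ext _ (MvPolynomial.algHom_ext fun x => ?_)⟩
  show Ideal.Quotient.mk I (g (Ideal.Quotient.mk _ (X x))) = f (Ideal.Quotient.mk _ (X x))
  rw [show g (Ideal.Quotient.mk _ (X x)) = v x from congrFun hg x, hvf]
  rfl

theorem smooth (hP : P * P = P) : Algebra.Smooth L (Univ P) :=
  { formallySmooth := formallySmooth P hP }

end Groth.Agent.EtStrLib
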