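import Mathlib
import Groth.Agent.EtStrLib.Univ
import Groth.Agent.EtStrLib.Close
import Groth.Agent.SmoothApproxLib.Section
import Groth.Agent.ApproxAwayLib.Modules

/-!
Finite étale algebras descend from `A'[1/t]` to `A[1/t]`.
-/

set_option autoImplicit false
set_option linter.all false

universe u

namespace Groth.Agent.EtStrLib

open TensorProduct

theorem exists_descend {A A' L L' : Type u} [CommRing A] [CommRing A'] [CommRing L] [CommRing L']
    {t : A} {g : A →+* A'} {jm : A' →+* L'} [Algebra A L] [Algebra L L']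
    (S : ApproxAwayLib.Setup t g (algebraMap A L) jm (algebraMap L L')) [IsLocalization.Away t L]
    [HenselianRing A (Ideal.span {t})] (hA' : HenselianRing A' (Ideal.span {g t}))
    (hbd : ∃ N : ℕ, ∀ a : A, (∃ e : ℕ, t ^ e * a = 0) → t ^ N * a = 0)
    (B' : Type u) [CommRing B'] [Algebra L' B'] [Algebra.Etale L' B'] [Module.Finite L' B'] :
    ∃ (B : Type u) (_ : CommRing B) (_ : Algebra L B), Algebra.Etale L B ∧ Module.Finite L B ∧
      Nonempty (L' ⊗[L] B ≃ₐ[L'] B') := by
  classical
  haveI := hA'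
  letI : Algebra A' L' := jm.toAlgebra
  let gL := algebraMap L L'
  haveI : Module.FinitePresentation L' B' :=
    Module.FinitePresentation.of_finite_of_finitePresentation L' B'
  haveI : Module.Projective L' B' := Module.Flat.projective_of_finitePresentation
  obtain ⟨p, x, φ, hx⟩ := HorrocksLib.exists_dualBasis L' B'
  obtain ⟨P, hP, c, d, hcd, hdc⟩ := ApproxAwayLib.exists_idempotent_descend S ‹_› _
    (ApproxAwayLib.idem_of_dualBasis x φ hx)
  let Φ : B' →ₗ[L'] (Fin p → L') := LinearMap.pi φ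
  have hΦ : ∀ y, Matrix.mulVec (d * c) (Φ y) = Φ y := fun y => funext fun i => by
    rw [hdc]
    conv_rhs => rw [show Φ y i = φ i y from rfl, ← hx y, map_sum]
    simp only [Matrix.mulVec, dotProduct, Matrix.of_apply, map_smul, smul_eq_mul]
    exact Finset.sum_congr rfl fun j _ => mul_comm _ _
  let F : Frame (P.map gL) B' :=
    { b := fun k => Fintype.linearCombination L' x (fun j => d j k)
      φ := c.mulVecLin.comp Φ
      sum := fun y => by
        simp only [← map_smul, ← map_sum]
        conv_rhs => rw [← hx y]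
        rw [Fintype.linearCombination_apply]
        refine Finset.sum_congr rfl fun j _ => ?_
        congr 1
        rw [show φ j y = Φ y j from rfl, ← hΦ y, ← Matrix.mulVec_mulVec]
        simp [Matrix.mulVec, dotProduct, mul_comm]
      coord := fun k i => by
        have h1 : Φ (Fintype.linearCombination L' x (fun j => d j k)) = (d * c).mulVec (fun j => d j k) := by
          funext a
          rw [hdc, Fintype.linearCombination_apply, map_sum]
          simp [Φ, Matrix.mulVec, dotProduct, mul_comm]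
        show c.mulVec (Φ _) i = _
        rw [h1, Matrix.mulVec_mulVec, ← Matrix.mul_assoc, hcd]
        have h2 : P.map gL * P.map gL = P.map gL := by rw [← Matrix.map_mul, hP]
        show ((P.map gL * c) * d) i k = _
        rw [Matrix.mul_assoc, hcd]
        exact congrFun (congrFun h2 i) k }
  let ε := Algebra.FormallyUnramified.elem L' B'
  have hε1 : ∀ y : B', (1 ⊗ₜ y - y ⊗ₜ 1) * ε = 0 := fun y =>
    Algebra.FormallyUnramified.one_tmul_sub_tmul_one_mul_elem y
  have hε2 : Algebra.TensorProduct.lmul' L' ε = 1 := Algebra.FormallyUnramified.lmul_elem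
  let v := F.consts ε
  obtain ⟨σ, hσ⟩ := exists_point P v (F.isPt ε hε1 hε2)
  -- a bound for the denominators
  choose k z hz using fun w : Var (Fin p) => S.surjL' (v w)
  let N := ∑ w, k w
  have hint : ∀ w, IsInt A' (algebraMap A' L' (g t ^ N) * v w) := fun w => by
    refine ⟨g t ^ (N - k w) * z w, ?_⟩
    show jm _ = jm (g t ^ N) * v w
    have hle : k w ≤ N := Finset.single_le_sum (fun i _ => Nat.zero_le _) (Finset.mem_univ w)
    rw [map_mul, ← hz w]
    conv_rhs => rw [← Nat.sub_add_cancel hle, pow_add, map_mul, map_pow jm (g t) (k w)]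
    ring
  haveI := smooth P hP
  obtain ⟨τ, hτ⟩ := SmoothApproxLib.exists_section_close S hbd (B := Univ P) σ.toRingHom σ.comp_algebraMap
    (fun w : Var (Fin p) => Ideal.Quotient.mk _ (MvPolynomial.X w)) (30 * N + 30)
  have hPid : P.map (algebraMap L L) = P := by ext i j; rfl
  have hv₀ : IsPt P (ptOf P τ) := by
    have := isPt_ptOf P τ
    rwa [hPid] at this
  obtain ⟨B, _, _, _, _, F₀, ε₀, -, -, hcon⟩ := exists_algebra hP hv₀
  refine ⟨B, inferInstance, inferInstance, inferInstance, inferInstance, ?_⟩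
  let φD : L' ⊗[L] B →ₗ[L'] (Fin p → L') :=
    (((Algebra.linearMap L L').compLeft (Fin p)).comp F₀.φ).liftBaseChange L'
  have hφD : ∀ (r : L') (y : B) (i : Fin p), φD (r ⊗ₜ y) i = r * gL (F₀.φ y i) := fun r y i => by
    simp [φD, gL, LinearMap.liftBaseChange_tmul]
  let G : Frame (P.map gL) (L' ⊗[L] B) :=
    { b := fun k => 1 ⊗ₜ F₀.b k
      φ := φD
      sum := fun y => by
        induction y using TensorProduct.induction_on with
        | zero => simp
        | tmul r y =>
          conv_rhs => rw [← F₀.sum y, TensorProduct.tmul_sum]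
          refine Finset.sum_congr rfl fun i _ => ?_
          rw [hφD, TensorProduct.tmul_smul, TensorProduct.smul_tmul', TensorProduct.smul_tmul',
            smul_eq_mul, mul_one, Algebra.smul_def, mul_comm]
        | add a b ha hb => simp [add_smul, Finset.sum_add_distrib, ha, hb]
      coord := fun k i => by rw [hφD, one_mul, F₀.coord]; rfl }
  let incl : B →ₐ[L] L' ⊗[L] B := Algebra.TensorProduct.includeRight
  let Φ₂ : B ⊗[L] B →ₐ[L] (L' ⊗[L] B) ⊗[L'] (L' ⊗[L] B) := Algebra.TensorProduct.lift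
    (((Algebra.TensorProduct.includeLeft :
      (L' ⊗[L] B) →ₐ[L'] (L' ⊗[L] B) ⊗[L'] (L' ⊗[L] B)).restrictScalars L).comp incl)
    (((Algebra.TensorProduct.includeRight (R := L') (A := L' ⊗[L] B) (B := L' ⊗[L] B)).restrictScalars L).comp incl)
    (fun _ _ => Commute.all _ _)
  have hΦ₂ : ∀ (w : B ⊗[L] B) (i j : Fin p), G.φ₂ (Φ₂ w) i j = gL (F₀.φ₂ w i j) := fun w i j => by
    induction w using TensorProduct.induction_on with
    | zero => simp
    | tmul a b =>
      rw [show Φ₂ (a ⊗ₜ b) = (incl a) ⊗ₜ[L'] (incl b) by simp [Φ₂], Frame.φ₂_tmul, Frame.φ₂_tmul, map_mul]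
      show φD ((1 : L') ⊗ₜ a) i * φD ((1 : L') ⊗ₜ b) j = _
      rw [hφD, hφD, one_mul, one_mul]
    | add a b ha hb => simp [ha, hb]
  have hG : ∀ w, G.consts (Φ₂ ε₀) w = gL (ptOf P τ w) := fun w => by
    rw [← hcon]
    rcases w with ⟨i, j, m⟩ | i | ⟨i, j⟩
    · show φD ((1 ⊗ₜ F₀.b i) * (1 ⊗ₜ F₀.b j)) m = gL (F₀.φ (F₀.b i * F₀.b j) m)
      rw [Algebra.TensorProduct.tmul_mul_tmul, hφD, mul_one, one_mul]
    · show φD 1 i = gL (F₀.φ 1 i)
      rw [Algebra.TensorProduct.one_def, hφD, one_mul]
    · exact hΦ₂ ε₀ i j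
  refine exists_algEquiv_of_close (A := A') (g t) ?_ ?_ F G ε hε1 hε2 (Φ₂ ε₀) N (30 * N + 30) le_rfl hint
    fun w => ?_
  · show IsUnit (jm (g t))
    rw [← S.comm]; exact S.unit.map _
  · intro y
    obtain ⟨e, a, ha⟩ := S.surjL' y
    refine ⟨e, a, ?_⟩
    show jm a = jm (g t ^ e) * y
    rw [← ha, map_pow, mul_comm]
  · obtain ⟨a, ha⟩ := hτ w
    refine ⟨a, ?_⟩
    show _ = jm (g t ^ (30 * N + 30) * a)
    rw [map_mul, map_pow, ← ha, hG]
    show gL (τ _) - v w = gL (τ _) - σ _
    rw [← hσ]
    rfl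

end Groth.Agent.EtStrLib
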