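import Mathlib
import Groth.Agent.EtStrLib.Descend
import Groth.Agent.SmoothApproxLib.EtalePoints
import Groth.Agent.SmoothApproxLib.FEtFF

/-!
Finite étale covers of `Spec A[1/t]` and `Spec A'[1/t]` agree.
-/

set_option autoImplicit false
set_option linter.all false
set_option backward.isDefEq.respectTransparency.types false

universe u

open CategoryTheory CategoryTheory.Limits AlgebraicGeometry TensorProduct

namespace Groth.Agent.EtStrLib

theorem restrict_isEquivalence {A A' L L' : Type u} [CommRing A] [CommRing A'] [CommRing L] [CommRing L']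
    {t : A} {g : A →+* A'} {jm : A' →+* L'} {gL : L →+* L'} [Algebra A L]
    (S : ApproxAwayLib.Setup t g (algebraMap A L) jm gL) [IsLocalization.Away t L]
    [HenselianRing A (Ideal.span {t})] (hA' : HenselianRing A' (Ideal.span {g t}))
    (hbd : ∃ N : ℕ, ∀ a : A, (∃ e : ℕ, t ^ e * a = 0) → t ^ N * a = 0) :
    (FEt.restrict (Spec.map (CommRingCat.ofHom gL))).IsEquivalence := by
  obtain ⟨hfull, hfaith⟩ := SmoothApproxLib.full_faithful_of_points gL fun B _ _ _ σ hσ =>
    SmoothApproxLib.existsUnique_point S hbd σ hσ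
  letI : Algebra L L' := gL.toAlgebra
  have hess : (FEt.restrict (Spec.map (CommRingCat.ofHom gL))).EssSurj := ⟨fun Y => by
    let w : Y.left ⟶ Spec (CommRingCat.of L') := Y.hom
    haveI : IsFinite w := Y.prop.1
    haveI : Etale w := Y.prop.2
    haveI : IsAffine Y.left := isAffine_of_isAffineHom w
    let φ := Spec.preimage (Y.left.isoSpec.inv ≫ w)
    have hφ : Spec.map φ = Y.left.isoSpec.inv ≫ w := Spec.map_preimage _
    letI : Algebra L' Γ(Y.left, ⊤) := φ.hom.toAlgebra
    haveI : Algebra.Etale L' Γ(Y.left, ⊤) := by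
      have h1 : Etale (Spec.map φ) := by rw [hφ]; infer_instance
      exact (HasRingHomProperty.Spec_iff (P := @Etale)).1 h1
    haveI : Module.Finite L' Γ(Y.left, ⊤) := by
      have h1 : IsFinite (Spec.map φ) := by rw [hφ]; infer_instance
      exact (IsFinite.SpecMap_iff φ).1 h1
    obtain ⟨B, _, _, hBet, hBfin, ⟨e⟩⟩ := exists_descend S hA' hbd Γ(Y.left, ⊤)
    have hX : FEt.prop (Spec.map (CommRingCat.ofHom (algebraMap L B))) := by
      refine ⟨(IsFinite.SpecMap_iff _).2 ?_, (HasRingHomProperty.Spec_iff (P := @Etale)).2 ?_⟩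
      · exact RingHom.finite_algebraMap.2 hBfin
      · exact RingHom.etale_algebraMap.2 hBet
    refine ⟨MorphismProperty.Over.mk _ (Spec.map (CommRingCat.ofHom (algebraMap L B))) hX, ⟨?_⟩⟩
    let e' : B ⊗[L] L' ≃+* Γ(Y.left, ⊤) := (Algebra.TensorProduct.comm L B L').toRingEquiv.trans e.toRingEquiv
    let i : pullback (Spec.map (CommRingCat.ofHom (algebraMap L B))) (Spec.map (CommRingCat.ofHom gL)) ≅ Y.left :=
      pullbackSpecIso L B L' ≪≫ (Scheme.Spec.mapIso (e'.toCommRingCatIso).op).symm ≪≫ Y.left.isoSpec.symm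
    refine MorphismProperty.Over.isoMk i ?_
    show i.hom ≫ w = pullback.snd _ _
    have h2 : φ ≫ CommRingCat.ofHom e'.symm.toRingHom =
        CommRingCat.ofHom (Algebra.TensorProduct.includeRight : L' →ₐ[L] B ⊗[L] L').toRingHom := by
      refine CommRingCat.hom_ext (RingHom.ext fun r => ?_)
      show e'.symm (algebraMap L' Γ(Y.left, ⊤) r) = 1 ⊗ₜ r
      refine e'.injective ?_
      rw [e'.apply_symm_apply]
      show _ = e (Algebra.TensorProduct.comm L B L' (1 ⊗ₜ r))
      rw [Algebra.TensorProduct.comm_tmul, ← e.commutes r]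
      rfl
    calc i.hom ≫ w = (pullbackSpecIso L B L').hom ≫
          Spec.map (CommRingCat.ofHom e'.symm.toRingHom) ≫ Spec.map φ := by
            rw [hφ]; simp [i]
      _ = _ := by rw [← Spec.map_comp, h2]; exact pullbackSpecIso_hom_snd L B L'⟩
  exact { }

end Groth.Agent.EtStrLib
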